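import Cfsg.Agent.ClassNum9.Iso.Normal

/-!
On a fixed symmetric space the label of a single linear piece is forced by the others.
-/

set_option autoImplicit false

namespace Cfsg.Agent.CN9

open Polynomial Module Cfsg.Agent.GLSemi

universe u v

variable {F : Type u} [Field F] [Fintype F] {V : Type v} [AddCommGroup V] [Module F V] [FiniteDimensional F V]
variable {B : LinearMap.BilinForm F V} {g g' : V ≃ₗ[F] V}

omit [FiniteDimensional F V] in
theorem piece_scale {δ : F} {W : Submodule F V} {s : F} (hs : s = 1 ∨ s = -1) {e : ℕ} {ν : Bool}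
    (h : FormAut δ B g) (hW : IsPiece δ B g W ((X - C s, e), ν)) {c : F} (hc : ¬ IsSquare c) :
    FormAut δ (c • B) g ∧ IsPiece δ (c • B) g W ((X - C s, e), !ν) := by
  have hc0 : c ≠ 0 := fun h0 => hc (h0 ▸ IsSquare.zero)
  refine ⟨⟨h.sign, fun x y => ?_, fun x y => ?_⟩, ?_⟩
  · simp only [LinearMap.smul_apply, smul_eq_mul]
    rw [h.symm]; ring
  · simp only [LinearMap.smul_apply, smul_eq_mul, h.inv]
  obtain ⟨he, hz⟩ := hW
  rcases hz with ⟨hP, -, -⟩ | ⟨s', hs', hP, hsign, v, hv, hν⟩ | ⟨s', -, hP, -⟩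
  · obtain ⟨-, h1, h1', -⟩ := hP
    rcases hs with rfl | rfl
    · exact absurd (by simp) h1
    · exact absurd (by simp) h1'
  · simp only at hP hν hv
    obtain rfl : s = s' := by simpa using hP
    refine ⟨he, Or.inr (Or.inl ⟨s, hs, rfl, hsign, v, ⟨hv.1, hv.2.1, hv.2.2.1, fun p hp => hv.2.2.2 p fun r => ?_⟩, ?_⟩)⟩
    · have h1 := hp r
      simp only [LinearMap.smul_apply, smul_eq_mul] at h1
      exact (mul_eq_zero.1 h1).resolve_left hc0
    · simp only [LinearMap.smul_apply, smul_eq_mul]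
      classical
      have hL : B v (pev g ((X - C s) ^ (e - 1)) v) ≠ 0 := hv.lead_ne he
      rw [← quadraticChar_neg_one_iff_not_isSquare] at hν ⊢
      rw [map_mul, quadraticChar_neg_one_iff_not_isSquare.2 hc]
      rcases quadraticChar_dichotomy hL with hd | hd <;> rw [hd] at hν ⊢ <;> cases ν <;> simp_all
  · simp only at hP
    have := congrArg natDegree hP
    rw [natDegree_pow, natDegree_X_sub_C, natDegree_X_sub_C] at this
    omega

omit [Fintype F] in
theorem exists_det_sq {W : Submodule F V} {π : V →ₗ[F] V} (hπ : ∀ x, π x ∈ W) (hfix : ∀ x ∈ W, π x = x) (c : F) :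
    LinearMap.det (LinearMap.id + (c - 1) • π : V →ₗ[F] V) = c ^ finrank F W := by
  classical
  have hP : LinearMap.IsProj W π := ⟨hπ, hfix⟩
  have hcompl := hP.isCompl
  let e := Submodule.prodEquivOfIsCompl W (LinearMap.ker π) hcompl
  have hconj : ((e : (W × LinearMap.ker π) →ₗ[F] V) ∘ₗ
      LinearMap.prodMap (c • (LinearMap.id : W →ₗ[F] W)) (LinearMap.id : LinearMap.ker π →ₗ[F] LinearMap.ker π) ∘ₗ
      (e.symm : V →ₗ[F] W × LinearMap.ker π)) = LinearMap.id + (c - 1) • π := by
    refine LinearMap.ext fun x => ?_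
    obtain ⟨⟨a, b⟩, rfl⟩ := e.surjective x
    simp only [LinearMap.comp_apply, LinearEquiv.coe_coe, LinearEquiv.symm_apply_apply, LinearMap.prodMap_apply,
      LinearMap.smul_apply, LinearMap.id_apply, LinearMap.add_apply]
    simp only [e, Submodule.coe_prodEquivOfIsCompl', Submodule.coe_smul, map_add, hfix _ a.2,
      LinearMap.mem_ker.1 b.2, add_zero, sub_smul, one_smul]
    abel
  rw [← hconj, LinearMap.det_conj, LinearMap.det_prodMap, LinearMap.det_smul, LinearMap.det_id, LinearMap.det_id,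
    mul_one, mul_one]

/-- the discriminant decides the label of a single odd linear piece -/
theorem flip_unique (h2 : (2 : F) ≠ 0) (h : FormAut (1 : F) B g) (h' : FormAut (1 : F) B g')
    (hnd : NdOn B (⊤ : Submodule F V)) {s : F} (hs : s = 1 ∨ s = -1) {e : ℕ} (he : Odd e) {ν ν' : Bool}
    {R : Multiset ((F[X] × ℕ) × Bool)} (hM : Decomp (1 : F) B g ⊤ (((X - C s, e), ν) ::ₘ R))
    (hM' : Decomp (1 : F) B g' ⊤ (((X - C s, e), ν') ::ₘ R)) : ν = ν' := by
  classical
  by_contra hne
  have hν' : ν' = !ν := by cases ν <;> cases ν' <;> simp_all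
  subst hν'
  obtain ⟨W, R1, hW, hle, hR, hd⟩ := hM.front h (Multiset.mem_cons_self _ _)
  rw [Multiset.cons_inj_right] at hR
  subst hR
  obtain ⟨W', R2, hW', hle', hR', hd'⟩ := hM'.front h' (Multiset.mem_cons_self _ _)
  rw [Multiset.cons_inj_right] at hR'
  subst hR'
  obtain ⟨c, hc⟩ := FiniteField.exists_nonsquare (F := F) fun hch => h2 (by
    haveI := ringChar.of_eq hch
    exact CharP.cast_eq_zero F 2)
  obtain ⟨hc', hWc⟩ := piece_scale hs h hW hc
  obtain ⟨hWi, hWnd, hdim⟩ := piece_props h2 h hW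
  obtain ⟨hW'i, hW'nd, -⟩ := piece_props h2 h' hW'
  obtain ⟨hU1, hnd1, -, -⟩ := rest_props h (fun _ _ => Submodule.mem_top) hnd hle hWi hWnd
  obtain ⟨f1, hf1, hf1B, -⟩ := piece_iso h2 hc' h' hWc hW'
  obtain ⟨f2, hf2, hf2B, -⟩ := decomp_iso h2 h h' hd hU1 hnd1 hd'
  obtain ⟨π, hπ, hperp, hfix, hkill⟩ := exists_proj h hWnd
  set f := f1.comp π + f2.comp (LinearMap.id - π) with hf
  set K : V →ₗ[F] V := LinearMap.id + (c - 1) • π with hK
  have hmem : ∀ x, x - π x ∈ (⊤ : Submodule F V) ⊓ perp' B W := fun x => ⟨Submodule.mem_top, hperp x⟩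
  have h1 : ∀ x, f1 (π x) ∈ W' := fun x => hf1 ▸ Submodule.mem_map_of_mem (hπ x)
  have h3 : ∀ x, f2 (x - π x) ∈ (⊤ : Submodule F V) ⊓ perp' B W' := fun x => hf2 ▸ Submodule.mem_map_of_mem (hmem x)
  have hcomp : B.comp f f = B.compLeft K := by
    refine LinearMap.ext fun x => LinearMap.ext fun y => ?_
    rw [LinearMap.BilinForm.comp_apply, LinearMap.BilinForm.compLeft_apply, hf, hK]
    simp only [LinearMap.add_apply, LinearMap.comp_apply, LinearMap.sub_apply, LinearMap.id_apply,
      LinearMap.smul_apply]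
    rw [map_add B (f1 (π x)), LinearMap.add_apply, map_add, map_add, hf1B _ (hπ x) _ (hπ y),
      hf2B _ (hmem x) _ (hmem y), (h3 y).2 _ (h1 x), h.symm (f2 (x - π x)) (f1 (π y)), (h3 x).2 _ (h1 y)]
    simp only [LinearMap.smul_apply, smul_eq_mul]
    have c3 : B (π x) (y - π y) = 0 := hperp y _ (hπ x)
    have c4 : B (x - π x) (π y) = 0 := by rw [h.symm, hperp x _ (hπ y), mul_zero]
    simp only [map_sub, map_smul, map_add, LinearMap.sub_apply, LinearMap.smul_apply, LinearMap.add_apply,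
      smul_eq_mul] at c3 c4 ⊢
    linear_combination (-c) * c3 - c4
  let bs := Module.finBasis F V
  have hG : (LinearMap.BilinForm.toMatrix bs B).det ≠ 0 :=
    (LinearMap.BilinForm.nondegenerate_iff_det_ne_zero bs).1
      ⟨fun x hx => hnd x Submodule.mem_top fun y _ => hx y,
        fun x hx => hnd x Submodule.mem_top fun y _ => by rw [h.symm, hx y, mul_zero]⟩
  have hdet := congrArg (fun D => (LinearMap.BilinForm.toMatrix bs D).det) hcomp
  simp only [LinearMap.BilinForm.toMatrix_comp bs bs, LinearMap.BilinForm.toMatrix_compLeft, Matrix.det_mul,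
    Matrix.det_transpose, LinearMap.det_toMatrix] at hdet
  rw [hK, exists_det_sq hπ hfix] at hdet
  have hsq : LinearMap.det f * LinearMap.det f = c ^ e := by
    rw [hdim] at hdet
    simp only [natDegree_X_sub_C, mul_one] at hdet
    refine mul_right_cancel₀ hG ?_
    linear_combination hdet
  obtain ⟨i, rfl⟩ := he
  have hc0 : c ≠ 0 := fun h0 => hc (h0 ▸ IsSquare.zero)
  refine hc ⟨LinearMap.det f / c ^ i, ?_⟩
  field_simp
  linear_combination -hsq

end Cfsg.Agent.CN9
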