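import Cfsg.Agent.ClassNum9.Orth.Realise
import Cfsg.Agent.Forms59.JordanQuad
import Cfsg.Prelude.Def_Classical

/-!
Lower bound for the class number of an even dimensional orthogonal group.
-/

set_option autoImplicit false

namespace Cfsg.Agent.CN9

open Polynomial Matrix

universe u

variable {F : Type u} [Field F] [Fintype F]

/-- monic polynomial of degree `n` with given lower coefficients -/
noncomputable def monicOf (n : ℕ) (r : Fin n → F) : F[X] := X ^ n + ∑ i : Fin n, C (r i) * X ^ (i : ℕ)

omit [Fintype F] in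
theorem monicOf_props (n : ℕ) (r : Fin n → F) : (monicOf n r).Monic ∧ (monicOf n r).natDegree = n ∧
    ∀ i : Fin n, (monicOf n r).coeff i = r i := by
  have hd : (∑ i : Fin n, C (r i) * X ^ (i : ℕ)).degree < (n : WithBot ℕ) := degree_sum_fin_lt r
  refine ⟨monic_X_pow_add hd, ?_, fun i => ?_⟩
  · refine natDegree_eq_of_degree_eq_some ?_
    rw [monicOf, degree_add_eq_left_of_degree_lt (by rwa [degree_X_pow]), degree_X_pow]
  · rw [monicOf, coeff_add, coeff_X_pow, if_neg (by omega), zero_add, finsetSum_coeff, Finset.sum_eq_single i]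
    · simp
    · intro j _ hj
      rw [coeff_C_mul, coeff_X_pow, if_neg (fun h => hj (Fin.ext h.symm)), mul_zero]
    · simp

theorem card_good_polys (h2 : (2 : F) ≠ 0) {n : ℕ} (hn : 2 ≤ n) (e : F) :
    Fintype.card F ^ n ≤ 2 * Nat.card {r : Fin n → F // (monicOf n r).eval 2 * (monicOf n r).eval (-2) = 0 ∨
      IsSquare (e * ((monicOf n r).eval 2 * (monicOf n r).eval (-2)))} := by
  classical
  obtain ⟨c, hc⟩ := GraphAut.exists_nonsquare (K := F) h2
  have hc0 : c ≠ 0 := fun h0 => hc (h0 ▸ IsSquare.zero)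
  let U : (Fin n → F) → F := fun r => (monicOf n r).eval 2
  let V : (Fin n → F) → F := fun r => (monicOf n r).eval (-2)
  let P : (Fin n → F) → Prop := fun r => U r * V r = 0 ∨ IsSquare (e * (U r * V r))
  let upd : (Fin n → F) → (Fin n → F) := fun r i =>
    r i + (if (i : ℕ) = 0 then (c - 1) * U r / 2 else if (i : ℕ) = 1 then (c - 1) * U r / 4 else 0)
  have h4 : (4 : F) ≠ 0 := by rw [show (4 : F) = 2 * 2 by norm_num]; exact mul_ne_zero h2 h2
  have hev : ∀ r (x : F), (monicOf n (upd r)).eval x =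
      (monicOf n r).eval x + (c - 1) * U r / 2 + (c - 1) * U r / 4 * x := by
    intro r x
    simp only [monicOf, eval_add, eval_pow, eval_X, eval_finsetSum, eval_mul, eval_C, upd, add_mul,
      Finset.sum_add_distrib]
    simp only [add_assoc]
    congr 2
    rw [Fintype.sum_eq_add (⟨0, by omega⟩ : Fin n) ⟨1, by omega⟩ (by simp [Fin.ext_iff]) (fun i hi => by
      have h0 : (i : ℕ) ≠ 0 := fun h => hi.1 (Fin.ext h)
      have h1 : (i : ℕ) ≠ 1 := fun h => hi.2 (Fin.ext h)
      rw [if_neg h0, if_neg h1, zero_mul])]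
    simp
  have hU : ∀ r, U (upd r) = c * U r := fun r => by
    show (monicOf n (upd r)).eval 2 = _
    rw [hev]
    show U r + _ + _ = _
    field_simp
    ring
  have hV : ∀ r, V (upd r) = V r := fun r => by
    show (monicOf n (upd r)).eval (-2) = _
    rw [hev]
    show V r + _ + _ = _
    field_simp
    ring
  have hinj : Function.Injective upd := by
    intro r r' h
    have hu : U r = U r' := mul_left_cancel₀ hc0 (by rw [← hU, ← hU, h])
    funext i
    have h1 := congrFun h i
    simp only [upd, hu] at h1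
    exact add_right_cancel h1
  have hmap : ∀ r, ¬ P r → P (upd r) := by
    intro r hr
    simp only [P, not_or] at hr
    refine Or.inr ?_
    rw [hU, hV, show e * (c * U r * V r) = c * (e * (U r * V r)) by ring]
    have hne : e * (U r * V r) ≠ 0 := fun h0 => hr.2 (h0 ▸ IsSquare.zero)
    rw [← quadraticChar_one_iff_isSquare (mul_ne_zero hc0 hne), map_mul,
      quadraticChar_neg_one_iff_not_isSquare.2 hc, quadraticChar_neg_one_iff_not_isSquare.2 hr.2]
    norm_num
  have hle : Nat.card {r // ¬ P r} ≤ Nat.card {r // P r} :=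
    Nat.card_le_card_of_injective (fun r : {r // ¬ P r} => (⟨upd r.1, hmap r.1 r.2⟩ : {r // P r}))
      fun r r' h => Subtype.ext (hinj (congrArg Subtype.val h))
  have htot : Nat.card {r // P r} + Nat.card {r // ¬ P r} = Fintype.card F ^ n := by
    rw [← Nat.card_sum, Nat.card_congr (Equiv.sumCompl P), Nat.card_fun, Nat.card_fin, Nat.card_eq_fintype_card]
  show _ ≤ 2 * Nat.card {r // P r}
  omega

theorem card_classes_O_lower (hodd : Odd (Fintype.card F)) {ι : Type} [Fintype ι] [DecidableEq ι]
    (Q : QuadraticForm F (ι → F)) (hQ : (QuadraticMap.polarBilin Q).Nondegenerate) {n : ℕ} (hn : 2 ≤ n)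
    (hι : Fintype.card ι = 2 * n) :
    Fintype.card F ^ n ≤ 2 * Nat.card (ConjClasses ↥(Cfsg.isometryGroup F ⇑Q)) := by
  classical
  have h2 : (2 : F) ≠ 0 := Ring.two_ne_zero fun h => by
    have h1 := FiniteField.even_card_of_char_two (F := F) h
    rw [Nat.odd_iff] at hodd
    omega
  obtain ⟨JQ, hJu, hJs, hJQ, -⟩ := Forms59.Jordan.exists_polar_matrix Q hQ
  have hJd : JQ.det ≠ 0 := ((Matrix.isUnit_iff_isUnit_det JQ).1 hJu).ne_zero
  let mat : ↥(Cfsg.isometryGroup F ⇑Q) → Matrix ι ι F := fun g =>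
    ((g : Matrix.GeneralLinearGroup ι F) : Matrix ι ι F)
  let cp : ConjClasses ↥(Cfsg.isometryGroup F ⇑Q) → F[X] :=
    Quotient.lift (fun g => (mat g).charpoly) (fun g h hgh => by
      obtain ⟨x, hx⟩ := isConj_iff.mp hgh
      rw [← hx]
      show _ = ((x * g * x⁻¹ : ↥(Cfsg.isometryGroup F ⇑Q)) : Matrix.GeneralLinearGroup ι F).val.charpoly
      rw [Subgroup.coe_mul, Subgroup.coe_mul, Subgroup.coe_inv, Units.val_mul, Units.val_mul, Matrix.coe_units_inv]
      exact (Matrix.charpoly_units_conj _ _).symm)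
  let S := {r : Fin n → F // (monicOf n r).eval 2 * (monicOf n r).eval (-2) = 0 ∨
      IsSquare ((-1) ^ n * JQ.det * ((monicOf n r).eval 2 * (monicOf n r).eval (-2)))}
  have key : ∀ r : S, ∃ g : ↥(Cfsg.isometryGroup F ⇑Q), (mat g).charpoly = palOf n (monicOf n r.1) := by
    intro r
    obtain ⟨hm, hd, -⟩ := monicOf_props n r.1
    obtain ⟨J, g, hJ, hg, hJdet, hsq, hcp⟩ := orthReal_exists h2 n _ hm hd JQ.det hJd (r.2.imp id fun h => by
      convert h using 1
      ring)
    let σ : Fin n ⊕ Fin n ≃ ι := Fintype.equivOfCardEq (by simp [hι]; omega)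
    have hg' : (Matrix.reindex σ σ g)ᵀ * Matrix.reindex σ σ J * Matrix.reindex σ σ g = Matrix.reindex σ σ J := by
      rw [Matrix.transpose_reindex, Matrix.reindex_apply, Matrix.reindex_apply, Matrix.reindex_apply,
        Matrix.submatrix_mul_equiv, Matrix.submatrix_mul_equiv, hg]
    obtain ⟨j, hj⟩ := GraphAut.cong_of_isSquare h2 (A := Matrix.reindex σ σ J) (B := JQ)
      (by rwa [Matrix.det_reindex_self]) hJd (by rw [Matrix.transpose_reindex, hJ]) hJs
      (by rwa [Matrix.det_reindex_self])
    set T : (ι → F) →ₗ[F] (ι → F) :=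
      (j : (ι → F) →ₗ[F] (ι → F)) ∘ₗ Matrix.toLin' (Matrix.reindex σ σ g) ∘ₗ (j.symm : (ι → F) →ₗ[F] (ι → F)) with hT
    have hTQ : ∀ v, Q (T v) = Q v := fun v => by
      have h1 : ∀ w, GraphAut.bf (Matrix.reindex σ σ J) (Matrix.reindex σ σ g *ᵥ w) (Matrix.reindex σ σ g *ᵥ w) =
          GraphAut.bf (Matrix.reindex σ σ J) w w := fun w => by
        simp only [GraphAut.bf_def]
        conv_rhs => rw [← hg', ← Matrix.mulVec_mulVec, ← Matrix.mulVec_mulVec, Matrix.dotProduct_mulVec w,
          Matrix.vecMul_transpose]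
      refine mul_left_cancel₀ h2 ?_
      rw [← hJQ, ← hJQ, ← GraphAut.bf_def, ← GraphAut.bf_def]
      show GraphAut.bf JQ (j (Matrix.toLin' (Matrix.reindex σ σ g) (j.symm v)))
        (j (Matrix.toLin' (Matrix.reindex σ σ g) (j.symm v))) = _
      rw [hj, Matrix.toLin'_apply, h1, ← hj, j.apply_symm_apply]
    have hTinj : Function.Injective T := by
      have hgd : IsUnit (Matrix.reindex σ σ g) := by
        rw [Matrix.isUnit_iff_isUnit_det, isUnit_iff_ne_zero]
        intro h0
        have h3 := congrArg Matrix.det hg'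
        rw [Matrix.det_mul, h0, mul_zero, Matrix.det_reindex_self] at h3
        exact hJdet h3.symm
      exact j.injective.comp ((Matrix.mulVec_injective_iff_isUnit.2 hgd).comp j.symm.injective)
    have hu : IsUnit (LinearMap.toMatrix' T) := Matrix.mulVec_injective_iff_isUnit.1 fun v w h => hTinj (by
      simpa [LinearMap.toMatrix'_mulVec] using h)
    refine ⟨⟨hu.unit, fun v w => ?_⟩, ?_⟩
    · show Q (LinearMap.toMatrix' T *ᵥ v) = Q v
      rw [LinearMap.toMatrix'_mulVec]
      exact hTQ v
    · show (LinearMap.toMatrix' T).charpoly = _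
      rw [← Matrix.charpoly_toLin' (LinearMap.toMatrix' T), Matrix.toLin'_toMatrix',
        show T = j.conj (Matrix.toLin' (Matrix.reindex σ σ g)) from rfl, LinearEquiv.charpoly_conj,
        Matrix.charpoly_toLin', Matrix.charpoly_reindex, hcp]
  choose g hg using key
  have hinj : Function.Injective (fun r : S => cp (ConjClasses.mk (g r))) := by
    intro r r' h
    have h1 : palOf n (monicOf n r.1) = palOf n (monicOf n r'.1) := (hg r).symm.trans (h.trans (hg r'))
    obtain ⟨hm, hd, hc⟩ := monicOf_props n r.1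
    obtain ⟨hm', hd', hc'⟩ := monicOf_props n r'.1
    have h3 := palOf_injective hm hd hm' hd' h1
    exact Subtype.ext (funext fun i => by rw [← hc i, h3, hc' i])
  refine (card_good_polys h2 hn ((-1) ^ n * JQ.det)).trans (Nat.mul_le_mul_left 2 ?_)
  exact Nat.card_le_card_of_injective (fun r : S => ConjClasses.mk (g r)) (fun r r' h => hinj (congrArg cp h))

end Cfsg.Agent.CN9
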