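import Cfsg.Agent.ClassNum9.Orth.Numeric
import Cfsg.Agent.ClassNum9.Sp.RegPoly

/-!
Counting orthogonal codes.
-/

set_option autoImplicit false

namespace Cfsg.Agent.CN9

open Polynomial Finset

universe u

/-- the code space -/
abbrev CodeO (F : Type u) [Field F] (N : ℕ) : Type u :=
  (Fin N → Σ d : Fin (N / 2 + 1), SPoly F d) × (Fin 4 → Fin ((N + 1) / 2) → Bool)

/-- weight of the bits -/
def bitsWt {L : ℕ} (b : Fin 4 → Fin L → Bool) : ℕ := ∑ i, ∑ l : Fin L, (2 * (l : ℕ) + 1) * (b i l).toNat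

/-- weight -/
noncomputable def codeOWt {F : Type u} [Field F] {N : ℕ} (x : CodeO F N) : ℕ :=
  2 * ∑ k : Fin N, ((k : ℕ) + 1) * ((x.1 k).1 : ℕ) + bitsWt x.2

theorem sum_bits_pow (L : ℕ) (u : ℝ) :
    ∑ b : Fin 4 → Fin L → Bool, u ^ bitsWt b = (∏ l ∈ range L, (1 + u ^ (2 * l + 1))) ^ 4 := by
  calc ∑ b : Fin 4 → Fin L → Bool, u ^ bitsWt b
      = ∑ b : Fin 4 → Fin L → Bool, ∏ i, ∏ l : Fin L, u ^ ((2 * (l : ℕ) + 1) * (b i l).toNat) := by
        simp only [bitsWt, ← prod_pow_eq_pow_sum]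
    _ = ∏ _i : Fin 4, ∏ l : Fin L, ∑ b : Bool, u ^ ((2 * (l : ℕ) + 1) * b.toNat) := by
        rw [← Fintype.prod_sum fun _i : Fin 4 => fun e : Fin L → Bool => ∏ l : Fin L, u ^ ((2 * (l : ℕ) + 1) * (e l).toNat)]
        refine prod_congr rfl fun _ _ => ?_
        exact (Fintype.prod_sum fun l : Fin L => fun b : Bool => u ^ ((2 * (l : ℕ) + 1) * b.toNat)).symm
    _ = _ := by
        rw [prod_const, Finset.card_univ, Fintype.card_fin, ← Fin.prod_univ_eq_prod_range (fun l => 1 + u ^ (2 * l + 1))]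
        simp [Fintype.sum_bool, add_comm]

/-- the share of a bit configuration -/
noncomputable def bitShare {L : ℕ} (N : ℕ) (b : Fin 4 → Fin L → Bool) : ℝ :=
  if Even (bitsWt b + N) then rt3 ^ bitsWt b / rt3 ^ (N % 2) else 0

theorem sum_bitShare (N L : ℕ) : ∑ b : Fin 4 → Fin L → Bool, bitShare N b =
    ((∏ l ∈ range L, (1 + rt3 ^ (2 * l + 1))) ^ 4 + (-1) ^ N * (∏ l ∈ range L, (1 - rt3 ^ (2 * l + 1))) ^ 4) /
      (2 * rt3 ^ (N % 2)) := by
  have h : ∀ b : Fin 4 → Fin L → Bool, bitShare N b =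
      (rt3 ^ bitsWt b + (-1) ^ N * (-rt3) ^ bitsWt b) / (2 * rt3 ^ (N % 2)) := by
    intro b
    rw [bitShare, neg_pow rt3, ← mul_assoc, ← pow_add, add_comm N]
    split_ifs with he
    · rw [he.neg_one_pow, one_mul]
      ring
    · rw [(Nat.not_even_iff_odd.1 he).neg_one_pow]
      ring
  simp only [h]
  rw [← sum_div, sum_add_distrib, ← mul_sum, sum_bits_pow, sum_bits_pow]
  congr 4
  refine prod_congr rfl fun l _ => ?_
  rw [(odd_two_mul_add_one l).neg_pow]
  ring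

variable {F : Type u} [Field F] [Fintype F]

theorem card_code1_le (hq : 3 ≤ Fintype.card F) {N : ℕ} (S : Finset (Fin 4 → Fin ((N + 1) / 2) → Bool)) :
    (Nat.card {x : CodeO F N // codeOWt x = N ∧ x.2 ∈ S} : ℝ) ≤
      (17854 / 10000 * ∑ b ∈ S, bitShare N b) * (Fintype.card F : ℝ) ^ (N / 2) := by
  classical
  haveI : ∀ d, Finite (SPoly F d) := fun d => (card_SPoly_le d).1
  haveI : ∀ d, Fintype (SPoly F d) := fun d => Fintype.ofFinite _
  obtain ⟨hy0, hy1, hy3⟩ := rt3_props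
  have hshare0 : ∀ b ∈ S, 0 ≤ bitShare N b := fun b _ => by
    unfold bitShare
    split_ifs <;> positivity
  rcases Nat.eq_zero_or_pos N with rfl | hN
  · simp only [Nat.zero_div, pow_zero, mul_one]
    rcases S.eq_empty_or_nonempty with rfl | ⟨b, hb⟩
    · simp
    haveI : Subsingleton (Fin 4 → Fin ((0 + 1) / 2) → Bool) := ⟨fun f g => funext fun i => funext fun l => absurd l.2 (by simp)⟩
    haveI : Subsingleton (CodeO F 0) := ⟨fun x y => Prod.ext (funext fun k => Fin.elim0 k) (Subsingleton.elim _ _)⟩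
    have h1 : (Nat.card {x : CodeO F 0 // codeOWt x = 0 ∧ x.2 ∈ S} : ℝ) ≤ 1 := by
      exact_mod_cast Finite.card_le_one_iff_subsingleton.2 inferInstance
    have h2 : bitShare 0 b = 1 := by
      have : bitsWt b = 0 := by simp [bitsWt]
      simp [bitShare, this]
    have h3 := single_le_sum hshare0 hb
    rw [h2] at h3
    linarith
  obtain ⟨m, rfl⟩ : ∃ m, N = m + 1 := ⟨N - 1, by omega⟩
  set q := Fintype.card F with hqdef
  set n := (m + 1) / 2 with hn
  have hq3 : (3 : ℝ) ≤ q := by exact_mod_cast hq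
  set z : ℝ := 1 / (q : ℝ) with hz
  have hz0 : 0 < z := by positivity
  have hqz : (q : ℝ) * z = 1 := by rw [hz]; field_simp
  have hz3 : z ≤ 1 / 3 := one_div_le_one_div_of_le (by norm_num) hq3
  let T := Σ d : Fin (n + 1), SPoly F d
  let R := (Fin m → T) × {b // b ∈ S}
  let wk : (Fin m → T) → ℕ := fun r => ∑ k : Fin m, ((k : ℕ) + 2) * ((r k).1 : ℕ)
  let rest : {x : CodeO F (m + 1) // codeOWt x = m + 1 ∧ x.2 ∈ S} →
      Σ r : R, {t : T // 2 * ((t.1 : ℕ) + wk r.1) + bitsWt r.2.1 = m + 1} := fun x =>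
    ⟨(fun k => x.1.1 k.succ, ⟨x.1.2, x.2.2⟩), x.1.1 0, by
      have h := x.2.1
      rw [codeOWt, Fin.sum_univ_succ] at h
      simp only [Fin.val_zero, zero_add, one_mul, Fin.val_succ, add_assoc] at h
      simp only [wk]
      rw [show (1 : ℕ) + 1 = 2 from rfl] at h
      exact h⟩
  have hinj : Function.Injective rest := by
    intro x y h
    refine Subtype.ext (Prod.ext (funext fun k => ?_) (congrArg (fun p : Σ r : R, {t : T // 2 * ((t.1 : ℕ) + wk r.1) + bitsWt r.2.1 = m + 1} => p.1.2.1) h))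
    cases k using Fin.cases with
    | zero => exact congrArg (fun p : Σ r : R, {t : T // 2 * ((t.1 : ℕ) + wk r.1) + bitsWt r.2.1 = m + 1} => p.2.1) h
    | succ k => exact congrArg (fun p : Σ r : R, {t : T // 2 * ((t.1 : ℕ) + wk r.1) + bitsWt r.2.1 = m + 1} => p.1.1 k) h
  have hfib : ∀ r : R, (Fintype.card {t : T // 2 * ((t.1 : ℕ) + wk r.1) + bitsWt r.2.1 = m + 1} : ℝ) ≤
      (q : ℝ) ^ n * (z ^ wk r.1 * bitShare (m + 1) r.2.1) := by
    intro r
    by_cases hcase : Even (bitsWt r.2.1 + (m + 1)) ∧ 2 * wk r.1 + bitsWt r.2.1 ≤ m + 1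
    swap
    · rw [Fintype.card_eq_zero_iff.2 ⟨fun t => hcase ⟨by have := t.2; rw [Nat.even_iff]; omega, by have := t.2; omega⟩⟩]
      have := hshare0 r.2.1 r.2.2
      push_cast
      positivity
    obtain ⟨heven, hle⟩ := hcase
    rw [Nat.even_iff] at heven
    obtain ⟨j, hj⟩ : ∃ j, bitsWt r.2.1 = 2 * j + (m + 1) % 2 := ⟨bitsWt r.2.1 / 2, by omega⟩
    have hD : wk r.1 + j ≤ n := by omega
    let f : {t : T // 2 * ((t.1 : ℕ) + wk r.1) + bitsWt r.2.1 = m + 1} → SPoly F (n - (wk r.1 + j)) := fun t =>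
      ⟨(t.1.2 : F[X]), by
        obtain ⟨a, b, c⟩ := t.1.2.2
        exact ⟨a, by rw [b]; have := t.2; omega, c⟩⟩
    have hf : Function.Injective f := by
      rintro ⟨⟨d, P⟩, hd⟩ ⟨⟨d', P'⟩, hd'⟩ h
      obtain rfl : d = d' := Fin.ext (by simp only at hd hd'; omega)
      exact Subtype.ext (congrArg (Sigma.mk d) (Subtype.ext (congrArg Subtype.val h :)))
    have hc : Fintype.card {t : T // 2 * ((t.1 : ℕ) + wk r.1) + bitsWt r.2.1 = m + 1} ≤ q ^ (n - (wk r.1 + j)) := by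
      refine (Fintype.card_le_of_injective f hf).trans ?_
      rw [← Nat.card_eq_fintype_card]
      exact (card_SPoly_le (F := F) (n - (wk r.1 + j))).2
    refine (Nat.cast_le.2 hc).trans ?_
    rw [bitShare, if_pos (Nat.even_iff.2 heven), hj, pow_add rt3, mul_div_assoc, div_self (pow_ne_zero _ hy0.ne'),
      mul_one, pow_mul]
    calc ((q ^ (n - (wk r.1 + j)) : ℕ) : ℝ) = (q : ℝ) ^ n * (z ^ wk r.1 * z ^ j) := by
          push_cast
          conv_rhs => rw [show n = (n - (wk r.1 + j)) + (wk r.1 + j) by omega, ← pow_add, pow_add, mul_assoc, ← mul_pow,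
            hqz, one_pow, mul_one]
      _ ≤ _ := mul_le_mul_of_nonneg_left (mul_le_mul_of_nonneg_left
          (pow_le_pow_left₀ hz0.le (hz3.trans hy3) j) (by positivity)) (by positivity)
  have h1 : (Nat.card {x : CodeO F (m + 1) // codeOWt x = m + 1 ∧ x.2 ∈ S} : ℝ) ≤
      (q : ℝ) ^ n * ∑ r : R, z ^ wk r.1 * bitShare (m + 1) r.2.1 := by
    rw [mul_sum]
    refine le_trans ?_ (sum_le_sum fun r _ => hfib r)
    rw [← Nat.cast_sum, ← Fintype.card_sigma, ← Nat.card_eq_fintype_card (α := Σ r : R, _)]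
    exact Nat.cast_le.2 (Nat.card_le_card_of_injective rest hinj)
  refine h1.trans ?_
  rw [mul_comm _ ((q : ℝ) ^ n)]
  refine mul_le_mul_of_nonneg_left ?_ (by positivity)
  rw [Fintype.sum_prod_type, ← Finset.sum_coe_sort S]
  simp only []
  rw [← sum_mul_sum]
  refine mul_le_mul_of_nonneg_right ?_ (sum_nonneg fun b _ => hshare0 b.1 b.2)
  simp only [wk, ← prod_pow_eq_pow_sum]
  rw [← Fintype.prod_sum fun k : Fin m => fun t : T => z ^ (((k : ℕ) + 2) * (t.1 : ℕ))]
  have hT : ∀ k : Fin m, ∑ t : T, z ^ (((k : ℕ) + 2) * (t.1 : ℕ)) ≤ 1 / (1 - 3 * (1 / 3 : ℝ) ^ ((k : ℕ) + 2)) := by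
    intro k
    set y := (q : ℝ) * z ^ ((k : ℕ) + 2) with hy
    have hy3' : y ≤ 3 * (1 / 3 : ℝ) ^ ((k : ℕ) + 2) := by
      rw [hy, pow_succ', ← mul_assoc, hqz, one_mul, pow_succ' (1 / 3 : ℝ), ← mul_assoc]
      norm_num only [one_mul]
      exact pow_le_pow_left₀ hz0.le hz3 _
    have hy1' : 3 * (1 / 3 : ℝ) ^ ((k : ℕ) + 2) < 1 := by
      rw [pow_succ', ← mul_assoc]
      norm_num only [one_mul]
      exact pow_lt_one₀ (by norm_num) (by norm_num) (by omega)
    have hy0' : 0 ≤ y := by positivity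
    rw [Fintype.sum_sigma]
    refine le_trans (sum_le_sum (g := fun d : Fin (n + 1) => y ^ (d : ℕ)) fun d _ => ?_) ?_
    · simp only []
      rw [sum_const, nsmul_eq_mul, Finset.card_univ, ← Nat.card_eq_fintype_card, hy, mul_pow, ← pow_mul]
      refine mul_le_mul_of_nonneg_right ?_ (by positivity)
      exact_mod_cast (card_SPoly_le (F := F) d).2
    · rw [Fin.sum_univ_eq_sum_range (fun d => y ^ d)]
      refine (geom_factor hy0' (hy3'.trans_lt hy1') _).trans ?_
      exact one_div_le_one_div_of_le (by linarith) (by linarith)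
  refine (prod_le_prod (fun k _ => sum_nonneg fun t _ => by positivity) fun k _ => hT k).trans (le_trans (le_of_eq ?_)
    (orth_A_le (m + 2)).2)
  rw [prod_Ico_eq_prod_range, show m + 2 - 2 = m by omega,
    Fin.prod_univ_eq_prod_range (fun k => 1 / (1 - 3 * (1 / 3 : ℝ) ^ (k + 2))) m]
  simp only [add_comm 2]

end Cfsg.Agent.CN9
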