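import Cfsg.Agent.ClassNum9.Orth.Code
import Cfsg.Agent.ClassNum9.Orth.Count
import Cfsg.Agent.ClassNum9.Orth.Flip
import Cfsg.Prelude.Def_Classical

/-!
Twice the class number of an orthogonal group is at most the number of codes plus the number of codes
without linear bits.
-/

set_option autoImplicit false

namespace Cfsg.Agent.CN9

open Polynomial Finset

universe u

variable {F : Type u} [Field F]

/-- label multisets of dimension `N` -/
def LabelSet (F : Type u) [Field F] (N : ℕ) : Type u :=
  {M : Multiset ((F[X] × ℕ) × Bool) //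
    (∀ z ∈ M, ValidLabel (1 : F) z) ∧ Normalised M ∧ (M.map fun z => z.1.2 * z.1.1.natDegree).sum = N}

theorem codePoly_none (M : Multiset ((F[X] × ℕ) × Bool)) {k : ℕ} (hnone : ∀ z ∈ M, z.1.2 ≠ k) :
    codePoly M k = 1 ∧ ∀ s : F, linMult M s k = 0 ∧ linFlag M s k = false := by
  classical
  have hcnt : ∀ P ν, ((P, k), ν) ∉ M := fun P ν hm => hnone _ hm rfl
  have hsf : splitFlag 0 false = (0, false, false) := rfl
  have hreg0 : regPart M k = 0 := by
    simp only [regPart]
    rw [Multiset.filter_eq_nil.2 fun z hz h => hnone z hz h.1, Multiset.map_zero]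
  constructor
  · simp [codePoly, hreg0, sqPow, linMult, linFlag, hcnt, hsf]
  · exact fun s => by simp [linMult, linFlag, hcnt]

theorem codeBits1_eq_false (M : Multiset ((F[X] × ℕ) × Bool)) {l : ℕ}
    (h : linMult M 1 (2 * l + 1) = 0 ∧ linMult M (-1) (2 * l + 1) = 0) : codeBits1 M l = fun _ => false := by
  classical
  have hf : ∀ s : F, linMult M s (2 * l + 1) = 0 → linFlag M s (2 * l + 1) = false := fun s hs => by
    cases hh : linFlag M s (2 * l + 1)
    · rfl
    · have := linFlag_pos hh; omega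
  funext i
  simp only [codeBits1, h.1, h.2, hf _ h.1, hf _ h.2]
  fin_cases i <;> rfl

/-- the code of a label multiset -/
noncomputable def labelCode (h2 : (2 : F) ≠ 0) {N : ℕ} (M : LabelSet F N) : {x : CodeO F N // codeOWt x = N} :=
  have hw := code1_weight h2 M.2.1 M.2.2.2
  have hd : ∀ k : Fin N, (codePoly M.1 ((k : ℕ) + 1)).natDegree / 2 < N / 2 + 1 := fun k => by
    have h1 := single_le_sum (f := fun k => k * ((codePoly M.1 k).natDegree / 2)) (fun _ _ => Nat.zero_le _)
      (show (k : ℕ) + 1 ∈ Icc 1 N by simp)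
    have h2' := Nat.le_mul_of_pos_left ((codePoly M.1 ((k : ℕ) + 1)).natDegree / 2) (show 0 < (k : ℕ) + 1 by omega)
    omega
  ⟨(fun k => ⟨⟨_, hd k⟩, codePoly M.1 ((k : ℕ) + 1), (codePoly_shape h2 _ _).1,
      by
        show _ = 2 * ((codePoly M.1 ((k : ℕ) + 1)).natDegree / 2)
        have := Nat.even_iff.1 (codePoly_shape h2 M.1 ((k : ℕ) + 1)).2.2
        omega,
      (codePoly_shape h2 _ _).2.1⟩, fun i l => codeBits1 M.1 l i), by
    refine Eq.trans ?_ hw
    simp only [codeOWt, bitsWt]
    congr 1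
    · congr 1
      rw [Fin.sum_univ_eq_sum_range (fun k => (k + 1) * ((codePoly M.1 (k + 1)).natDegree / 2)) N,
        ← Finset.Ico_add_one_right_eq_Icc, sum_Ico_eq_sum_range, Nat.add_sub_cancel]
      simp only [add_comm 1]
    · rw [sum_comm, Fin.sum_univ_eq_sum_range (fun l => ∑ i : Fin 4, (2 * l + 1) * (codeBits1 M.1 l i).toNat)]
      refine sum_congr rfl fun l _ => ?_
      rw [← mul_sum]
      rfl⟩

theorem labelCode_inj (h2 : (2 : F) ≠ 0) {N : ℕ} : Function.Injective (labelCode (F := F) h2 (N := N)) := by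
  intro M M' h
  refine Subtype.ext (code1_inj h2 M.2.1 M'.2.1 M.2.2.1 M'.2.2.1 (fun k hk => ?_) fun l => ?_)
  · rcases Nat.lt_or_ge N k with hlt | hle
    · have hnone : ∀ C : LabelSet F N, ∀ z ∈ C.1, z.1.2 ≠ k := fun C z hz he => by
        have := code1_bound h2 C.2.1 C.2.2.2 hz
        omega
      rw [(codePoly_none _ (hnone M)).1, (codePoly_none _ (hnone M')).1]
    · have hk' : k - 1 < N := by omega
      have h1 := congrArg (fun x : {x : CodeO F N // codeOWt x = N} => ((x.1.1 ⟨k - 1, hk'⟩).2 : F[X])) h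
      simp only [labelCode, Nat.sub_add_cancel hk] at h1
      exact h1
  · rcases Nat.lt_or_ge l ((N + 1) / 2) with hlt | hge
    · funext i
      exact congrArg (fun x : {x : CodeO F N // codeOWt x = N} => x.1.2 i ⟨l, hlt⟩) h
    · have hnone : ∀ C : LabelSet F N, codeBits1 C.1 l = fun _ => false := fun C =>
        have hn := (codePoly_none (k := 2 * l + 1) C.1 fun z hz he => by
          have := code1_bound h2 C.2.1 C.2.2.2 hz
          omega).2
        codeBits1_eq_false _ ⟨(hn 1).1, (hn (-1)).1⟩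
      rw [hnone M, hnone M']

/-- the present linear kinds -/
noncomputable def linKinds {N : ℕ} (M : LabelSet F N) : Finset (Bool × Fin ((N + 1) / 2)) :=
  Finset.univ.filter fun p => 0 < linMult M.1 (if p.1 then (1 : F) else -1) (2 * (p.2 : ℕ) + 1)

theorem linFlag_eq {M : Multiset ((F[X] × ℕ) × Bool)} {s : F} {k : ℕ} (h : 0 < linMult M s k) :
    ((X - C s, k), linFlag M s k) ∈ M := by
  classical
  by_cases hm : ((X - C s, k), true) ∈ M
  · simpa [linFlag, hm] using hm
  · have h0 := Multiset.count_eq_zero_of_notMem hm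
    simp only [linMult, h0, add_zero] at h
    simpa [linFlag, hm] using Multiset.count_pos.1 h

theorem erase_no_true [DecidableEq ((F[X] × ℕ) × Bool)] {M : Multiset ((F[X] × ℕ) × Bool)} (hN : Normalised M)
    (s : F) (k : ℕ) : ((X - C s, k), true) ∉ M.erase ((X - C s, k), linFlag M s k) := by
  classical
  intro hm
  have hm' := Multiset.mem_of_mem_erase hm
  have hf : linFlag M s k = true := by simpa [linFlag] using hm'
  rw [hf] at hm
  exact hN _ hm' rfl _ (Multiset.cons_erase hm').symm (by convert hm)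

/-- changing the flag of a linear kind -/
noncomputable def setFlag (h2 : (2 : F) ≠ 0) {N : ℕ} (M : LabelSet F N) (s : F) (k : ℕ) (h : 0 < linMult M.1 s k) (b : Bool) :
    LabelSet F N := by
  classical
  refine ⟨((X - C s, k), b) ::ₘ M.1.erase ((X - C s, k), linFlag M.1 s k), ?_, ?_, ?_⟩
  · intro z hz
    rcases Multiset.mem_cons.1 hz with rfl | hz
    · obtain ⟨he, hc⟩ := M.2.1 _ (linFlag_eq h)
      refine ⟨he, ?_⟩
      rcases hc with ⟨hr, -⟩ | hc | ⟨s', -, hs', -⟩
      · have := (hr.shape h2).2.1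
        rw [natDegree_X_sub_C] at this
        exact absurd this Nat.not_even_one
      · exact Or.inr (Or.inl hc)
      · exfalso
        have := congrArg natDegree hs'
        rw [natDegree_pow, natDegree_X_sub_C, natDegree_X_sub_C] at this
        omega
    · exact M.2.1 z (Multiset.mem_of_mem_erase hz)
  · intro z hz hzt M' hM' hmem
    have h2c : 2 ≤ (((X - C s, k), b) ::ₘ M.1.erase ((X - C s, k), linFlag M.1 s k)).count z := by
      rw [hM', Multiset.count_cons_self]
      have := Multiset.one_le_count_iff_mem.2 hmem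
      omega
    by_cases hzk : z = ((X - C s, k), true)
    · subst hzk
      rw [Multiset.count_cons, Multiset.count_eq_zero_of_notMem (erase_no_true M.2.2.1 s k)] at h2c
      split_ifs at h2c <;> omega
    · have hne : z ≠ ((X - C s, k), b) := fun he => hzk (by rw [he] at hzt ⊢; simp_all)
      rw [Multiset.count_cons, if_neg hne] at h2c
      have h3 := Multiset.count_le_of_le z (Multiset.erase_le ((X - C s, k), linFlag M.1 s k) M.1)
      rw [count_true_le_one M.2.2.1 hzt] at h3
      split_ifs at h3 <;> omega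
  · refine Eq.trans ?_ M.2.2.2
    conv_rhs => rw [← Multiset.cons_erase (linFlag_eq h)]
    rw [Multiset.map_cons, Multiset.map_cons]

theorem setFlag_facts (h2 : (2 : F) ≠ 0) {N : ℕ} (M : LabelSet F N) (s : F) (k : ℕ) (h : 0 < linMult M.1 s k) (b : Bool) :
    linKinds (setFlag h2 M s k h b) = linKinds M ∧ linFlag (setFlag h2 M s k h b).1 s k = b ∧
      ∃ R, M.1 = ((X - C s, k), linFlag M.1 s k) ::ₘ R ∧ (setFlag h2 M s k h b).1 = ((X - C s, k), b) ::ₘ R := by
  classical
  have hM := Multiset.cons_erase (linFlag_eq h)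
  refine ⟨?_, ?_, M.1.erase ((X - C s, k), linFlag M.1 s k), hM.symm, rfl⟩
  · have hcount : ∀ (a : F[X] × ℕ) (c d : Bool) (R : Multiset ((F[X] × ℕ) × Bool)) (z : F[X] × ℕ),
        ((a, c) ::ₘ R).count (z, false) + ((a, c) ::ₘ R).count (z, true) =
          ((a, d) ::ₘ R).count (z, false) + ((a, d) ::ₘ R).count (z, true) := by
      intro a c d R z
      by_cases hz : z = a
      · subst hz
        cases c <;> cases d <;> simp [Multiset.count_cons] <;> omega
      · simp [Multiset.count_cons, hz]
    have hmult : ∀ t j, linMult (setFlag h2 M s k h b).1 t j = linMult M.1 t j := fun t j => by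
      conv_rhs => rw [← hM]
      exact hcount _ _ _ _ _
    simp only [linKinds, hmult]
  · have h1 := erase_no_true M.2.2.1 s k
    cases b <;> simp [linFlag, setFlag] <;> simp [linFlag] at h1 ⊢ <;> exact h1

variable [Fintype F]

open Matrix in
/-- the counting map -/
theorem two_mul_card_classes_le (hodd : Odd (Fintype.card F)) {ι : Type} [Fintype ι] [DecidableEq ι]
    (Q : QuadraticForm F (ι → F)) (hQ : (QuadraticMap.polarBilin Q).Nondegenerate) :
    (2 * Nat.card (ConjClasses ↥(Cfsg.isometryGroup F ⇑Q)) : ℝ) ≤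
      17854 / 10000 * (∑ b : Fin 4 → Fin ((Fintype.card ι + 1) / 2) → Bool, bitShare (Fintype.card ι) b +
        bitShare (Fintype.card ι) (fun _ (_ : Fin ((Fintype.card ι + 1) / 2)) => false)) *
        (Fintype.card F : ℝ) ^ (Fintype.card ι / 2) := by
  classical
  set N := Fintype.card ι with hN
  have h2 : (2 : F) ≠ 0 := Ring.two_ne_zero fun h => by
    have h1 := FiniteField.even_card_of_char_two (F := F) h
    rw [Nat.odd_iff] at hodd
    omega
  have hq : 3 ≤ Fintype.card F := by
    have h1 := Fintype.one_lt_card (α := F)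
    obtain ⟨r, hr⟩ := hodd
    omega
  let G := ↥(Cfsg.isometryGroup F ⇑Q)
  let B : LinearMap.BilinForm F (ι → F) := QuadraticMap.polarBilin Q
  have hB : ∀ x y, B x y = QuadraticMap.polar Q x y := fun x y => rfl
  let toEquiv : G → ((ι → F) ≃ₗ[F] (ι → F)) := fun a =>
    LinearEquiv.ofLinearMap (Matrix.toLin' ((a : Matrix.GeneralLinearGroup ι F) : Matrix ι ι F))
      (Matrix.toLin' (((a : Matrix.GeneralLinearGroup ι F)⁻¹ : Matrix.GeneralLinearGroup ι F) : Matrix ι ι F))
      (by rw [← Matrix.toLin'_mul, ← Units.val_mul, mul_inv_cancel]; exact Matrix.toLin'_one)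
      (by rw [← Matrix.toLin'_mul, ← Units.val_mul, inv_mul_cancel]; exact Matrix.toLin'_one)
  have happ : ∀ a x, toEquiv a x = ((a : Matrix.GeneralLinearGroup ι F) : Matrix ι ι F) *ᵥ x := fun a x => rfl
  have haut : ∀ a, FormAut (1 : F) B (toEquiv a) := fun a => ⟨Or.inl rfl, fun x y => by
      rw [one_mul, hB, hB, QuadraticMap.polar_comm], fun x y => by
      simp only [hB, QuadraticMap.polar, ← map_add]
      have h1 : ∀ v, Q (toEquiv a v) = Q v := fun v => a.2 v v
      simp only [h1]⟩
  have hBnd : NdOn B (⊤ : Submodule F (ι → F)) := fun x _ hx => hQ.1 x fun y => hx y Submodule.mem_top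
  choose Mf hMf hMN using fun a => exists_normalised h2 (haut a) hBnd
  let M : G → LabelSet F N := fun a => ⟨Mf a, (hMf a).valid, hMN a, by
    rw [decomp_dim h2 (haut a) (hMf a) (fun _ _ => Submodule.mem_top) hBnd, finrank_top,
      Module.finrank_fintype_fun_eq_card]⟩
  have hconj : ∀ a b, Mf a = Mf b → IsConj a b := by
    intro a b hab
    obtain ⟨f, hfB, hfg⟩ := exists_isometry h2 (haut a) (haut b) hBnd (hMf a) (hab ▸ hMf b)
    have hfQ : ∀ v, Q (f v) = Q v := fun v => by
      have h1 := hfB v v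
      simp only [hB, QuadraticMap.polar_self, nsmul_eq_mul, Nat.cast_ofNat] at h1
      exact mul_left_cancel₀ h2 h1
    have hu : IsUnit (LinearMap.toMatrix' (f : (ι → F) →ₗ[F] (ι → F))) :=
      ⟨⟨LinearMap.toMatrix' (f : (ι → F) →ₗ[F] (ι → F)), LinearMap.toMatrix' (f.symm : (ι → F) →ₗ[F] (ι → F)),
        by rw [← LinearMap.toMatrix'_comp]; simp, by rw [← LinearMap.toMatrix'_comp]; simp⟩, rfl⟩
    have hc : ∀ x, LinearMap.toMatrix' (f : (ι → F) →ₗ[F] (ι → F)) *ᵥ x = f x := fun x => by
      rw [← Matrix.toLin'_apply, Matrix.toLin'_toMatrix']; rfl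
    let c : G := ⟨hu.unit, fun v w => by
      show Q (LinearMap.toMatrix' (f : (ι → F) →ₗ[F] (ι → F)) *ᵥ v) = Q v
      rw [hc, hfQ]⟩
    refine isConj_iff.2 ⟨c, ?_⟩
    rw [mul_inv_eq_iff_eq_mul]
    refine Subtype.ext (Units.ext (Matrix.ext_of_mulVec_single fun i => ?_))
    rw [Subgroup.coe_mul, Subgroup.coe_mul, Units.val_mul, Units.val_mul, ← Matrix.mulVec_mulVec,
      ← Matrix.mulVec_mulVec]
    show LinearMap.toMatrix' (f : (ι → F) →ₗ[F] (ι → F)) *ᵥ _ = _
    rw [← happ, hc, hfg, happ]
    congr 1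
    exact (hc _).symm
  -- the map
  let None' := {X : LabelSet F N // linKinds X = ∅}
  let sgn : Bool → F := fun b => if b then 1 else -1
  have hchoose : ∀ {S S' : Finset (Bool × Fin ((N + 1) / 2))} (hS : S.Nonempty) (hS' : S'.Nonempty), S = S' →
      hS.choose = hS'.choose := by
    intro S S' hS hS' he
    subst he
    rfl
  have hpos : ∀ a (hS : (linKinds (M a)).Nonempty),
      0 < linMult (M a).1 (sgn hS.choose.1) (2 * (hS.choose.2 : ℕ) + 1) := fun a hS => by
    have := hS.choose_spec
    simpa only [linKinds, sgn, Finset.mem_filter, Finset.mem_univ, true_and] using this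
  let Φ : ConjClasses G × Bool → LabelSet F N ⊕ None' := fun Cb =>
    if h : (linKinds (M (Quotient.out Cb.1))).Nonempty then
      Sum.inl (setFlag h2 (M (Quotient.out Cb.1)) (sgn h.choose.1) (2 * (h.choose.2 : ℕ) + 1) (hpos _ h) Cb.2)
    else if Cb.2 then Sum.inr ⟨M (Quotient.out Cb.1), Finset.not_nonempty_iff_eq_empty.1 h⟩
      else Sum.inl (M (Quotient.out Cb.1))
  have hΦ : Function.Injective Φ := by
    rintro ⟨C, b⟩ ⟨C', b'⟩ h
    have hout : ∀ D D' : ConjClasses G, Mf (Quotient.out D) = Mf (Quotient.out D') → D = D' := fun D D' he =>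
      (Quotient.out_eq D).symm.trans ((ConjClasses.mk_eq_mk_iff_isConj.2 (hconj _ _ he)).trans (Quotient.out_eq D'))
    have key : ∀ p p' : Bool × Fin ((N + 1) / 2), p = p' →
        ∀ (hp : 0 < linMult (M (Quotient.out C)).1 (sgn p.1) (2 * (p.2 : ℕ) + 1))
          (hp' : 0 < linMult (M (Quotient.out C')).1 (sgn p'.1) (2 * (p'.2 : ℕ) + 1)),
        setFlag h2 (M (Quotient.out C)) (sgn p.1) (2 * (p.2 : ℕ) + 1) hp b =
          setFlag h2 (M (Quotient.out C')) (sgn p'.1) (2 * (p'.2 : ℕ) + 1) hp' b' → (C, b) = (C', b') := by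
      rintro p _ rfl hp hp' he
      obtain ⟨-, f1, R, hR, hR'⟩ := setFlag_facts h2 (M (Quotient.out C)) (sgn p.1) (2 * (p.2 : ℕ) + 1) hp b
      obtain ⟨-, f2, R2, hR2, hR2'⟩ := setFlag_facts h2 (M (Quotient.out C')) (sgn p.1) (2 * (p.2 : ℕ) + 1) hp' b'
      rw [he] at f1 hR'
      obtain rfl : b = b' := f1.symm.trans f2
      obtain rfl : R = R2 := (Multiset.cons_inj_right _).1 (hR'.symm.trans hR2')
      have d1 := hMf (Quotient.out C)
      have d2 := hMf (Quotient.out C')
      rw [show Mf (Quotient.out C) = _ from hR] at d1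
      rw [show Mf (Quotient.out C') = _ from hR2] at d2
      have hν := flip_unique h2 (haut _) (haut _) hBnd (by simp only [sgn]; split_ifs <;> simp)
        (odd_two_mul_add_one _) d1 d2
      refine Prod.ext (hout _ _ ?_) rfl
      show (M (Quotient.out C)).1 = (M (Quotient.out C')).1
      rw [hR, hR2, hν]
    simp only [Φ] at h
    by_cases h1 : (linKinds (M (Quotient.out C))).Nonempty <;>
      by_cases h1' : (linKinds (M (Quotient.out C'))).Nonempty
    · rw [dif_pos h1, dif_pos h1', Sum.inl.injEq] at h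
      have e1 := congrArg linKinds h
      rw [(setFlag_facts h2 _ _ _ _ _).1, (setFlag_facts h2 _ _ _ _ _).1] at e1
      exact key _ _ (hchoose h1 h1' e1) _ _ h
    · exfalso
      rw [dif_pos h1, dif_neg h1'] at h
      cases b' <;> simp at h
      have e1 := congrArg linKinds h
      rw [(setFlag_facts h2 _ _ _ _ _).1] at e1
      exact h1' (e1 ▸ h1)
    · exfalso
      rw [dif_neg h1, dif_pos h1'] at h
      cases b <;> simp at h
      have e1 := congrArg linKinds h
      rw [(setFlag_facts h2 _ _ _ _ _).1] at e1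
      exact h1 (e1 ▸ h1')
    · rw [dif_neg h1, dif_neg h1'] at h
      cases b <;> cases b' <;> simp at h
      · exact Prod.ext (hout _ _ (congrArg Subtype.val h :)) rfl
      · exact Prod.ext (hout _ _ (congrArg (fun X => X.1.1) h :)) rfl
  haveI : ∀ d, Finite (SPoly F d) := fun d => (card_SPoly_le d).1
  let None0 : Finset (Fin 4 → Fin ((N + 1) / 2) → Bool) := {fun _ _ => false}
  let Ψ : LabelSet F N ⊕ None' → {x : CodeO F N // codeOWt x = N ∧ x.2 ∈ (Finset.univ : Finset _)} ⊕
      {x : CodeO F N // codeOWt x = N ∧ x.2 ∈ None0} :=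
    Sum.map (fun X => ⟨(labelCode h2 X).1, (labelCode h2 X).2, Finset.mem_univ _⟩)
      (fun X => ⟨(labelCode h2 X.1).1, (labelCode h2 X.1).2, Finset.mem_singleton.2 (funext fun i => funext fun l => by
        have h0 : ∀ b : Bool, linMult X.1.1 (sgn b) (2 * (l : ℕ) + 1) = 0 := fun b => by
          have := Finset.eq_empty_iff_forall_notMem.1 X.2 (b, l)
          simp only [linKinds, Finset.mem_filter, Finset.mem_univ, true_and, not_lt, Nat.le_zero] at this
          exact this
        exact congrFun (codeBits1_eq_false X.1.1 ⟨h0 true, h0 false⟩) i)⟩)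
  have hΨ : Function.Injective Ψ := by
    refine Sum.map_injective.2 ⟨fun X Y e => labelCode_inj h2 (Subtype.ext (congrArg Subtype.val e :)),
      fun X Y e => Subtype.ext (labelCode_inj h2 (Subtype.ext (congrArg Subtype.val e :)))⟩
  have hle := Nat.card_le_card_of_injective _ (hΨ.comp hΦ)
  rw [Nat.card_prod, Nat.card_sum, Nat.card_eq_fintype_card (α := Bool), Fintype.card_bool] at hle
  have hle' : (2 * Nat.card (ConjClasses G) : ℝ) ≤
      (Nat.card {x : CodeO F N // codeOWt x = N ∧ x.2 ∈ (Finset.univ : Finset _)} : ℝ) +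
        (Nat.card {x : CodeO F N // codeOWt x = N ∧ x.2 ∈ None0} : ℝ) := by
    rw [mul_comm]
    exact_mod_cast hle
  have c1 := card_code1_le (F := F) hq (N := N) Finset.univ
  have c2 := card_code1_le (F := F) hq (N := N) None0
  rw [Finset.sum_singleton] at c2
  refine hle'.trans ((add_le_add c1 c2).trans (le_of_eq ?_))
  ring

end Cfsg.Agent.CN9
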