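import Cfsg.Agent.ClassNum9.Sp.Weight

/-!
Labels of orthogonal pieces are encoded by self-dual polynomials and bits.
-/

set_option autoImplicit false

namespace Cfsg.Agent.CN9

open Polynomial Cfsg.Agent.GLSemi

universe u

variable {F : Type u} [Field F]

/-- the bits of an odd exponent -/
noncomputable def codeBits1 (M : Multiset ((F[X] × ℕ) × Bool)) (l : ℕ) : Fin 4 → Bool :=
  ![(splitFlag (linMult M 1 (2 * l + 1)) (linFlag M 1 (2 * l + 1))).2.1,
    (splitFlag (linMult M 1 (2 * l + 1)) (linFlag M 1 (2 * l + 1))).2.2,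
    (splitFlag (linMult M (-1) (2 * l + 1)) (linFlag M (-1) (2 * l + 1))).2.1,
    (splitFlag (linMult M (-1) (2 * l + 1)) (linFlag M (-1) (2 * l + 1))).2.2]

theorem sign1_odd {e : ℕ} (he : 1 ≤ e) (h : (1 : F) * (-1) ^ (e - 1) = 1) (h2 : (2 : F) ≠ 0) : Odd e := by
  by_contra heven
  rw [Nat.not_odd_iff_even] at heven
  rw [one_mul, (Nat.Even.sub_odd he heven odd_one).neg_one_pow] at h
  exact h2 (by rw [← one_add_one_eq_two]; nth_rw 1 [← h]; exact neg_add_cancel 1)

theorem sign1_even {e : ℕ} (he : 1 ≤ e) (h : (1 : F) * (-1) ^ (e - 1) = -1) (h2 : (2 : F) ≠ 0) : Even e := by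
  by_contra hodd
  rw [Nat.not_even_iff_odd] at hodd
  rw [one_mul, (Nat.Odd.sub_odd hodd odd_one).neg_one_pow] at h
  exact h2 (by rw [← one_add_one_eq_two]; nth_rw 1 [h]; exact neg_add_cancel 1)

/-- codes determine normalised orthogonal labels -/
theorem code1_inj (h2 : (2 : F) ≠ 0) {M M' : Multiset ((F[X] × ℕ) × Bool)} (hv : ∀ z ∈ M, ValidLabel (1 : F) z)
    (hv' : ∀ z ∈ M', ValidLabel (1 : F) z) (hN : Normalised M) (hN' : Normalised M')
    (hp : ∀ k, 1 ≤ k → codePoly M k = codePoly M' k) (hb : ∀ l, codeBits1 M l = codeBits1 M' l) : M = M' := by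
  classical
  have hlin : ∀ s : F, (s = 1 ∨ s = -1) → ¬ IsReg (X - C s) ∧ ¬ IsReg ((X - C s) ^ 2) := by
    intro s hs
    rcases hs with rfl | rfl
    · exact ⟨fun h => h.2.1 (by simp), fun h => h.2.1 (by simp)⟩
    · exact ⟨fun h => h.2.2.1 (by simp), fun h => h.2.2.1 (by simp)⟩
  have hdeg : ∀ s s' : F, X - C s ≠ (X - C s') ^ 2 := fun s s' hh => by
    have := congrArg natDegree hh
    rw [natDegree_pow, natDegree_X_sub_C, natDegree_X_sub_C] at this
    omega
  -- facts about a valid multiset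
  have hreg : ∀ (M : Multiset ((F[X] × ℕ) × Bool)), (∀ z ∈ M, ValidLabel (1 : F) z) → ∀ P k, IsReg P →
      (regPart M k).count P = M.count ((P, k), false) := by
    intro M hv P k hP
    simp only [regPart]
    rw [Multiset.count_map, Multiset.filter_filter, Multiset.count_eq_card_filter_eq]
    congr 1
    refine Multiset.filter_congr fun z hz => ?_
    constructor
    · rintro ⟨h1, h2', -⟩
      obtain ⟨-, hcase⟩ := hv z hz
      rcases hcase with ⟨-, hν⟩ | ⟨s, hs, hs', -⟩ | ⟨s, hs, hs', -⟩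
      · exact (Prod.ext (Prod.ext h1 h2'.symm) hν.symm : ((P, k), false) = z)
      · exact absurd (h1 ▸ hP) (hs' ▸ (hlin s hs).1)
      · exact absurd (h1 ▸ hP) (hs' ▸ (hlin s hs).2)
    · rintro rfl
      exact ⟨rfl, rfl, hP⟩
  have hodd0 : ∀ (M : Multiset ((F[X] × ℕ) × Bool)), (∀ z ∈ M, ValidLabel (1 : F) z) → ∀ (s : F) k, Even k →
      linMult M s k = 0 ∧ linFlag M s k = false := by
    intro M hv s k hk
    have h0 : ∀ ν, ((X - C s, k), ν) ∉ M := by
      intro ν hm
      obtain ⟨he, hcase⟩ := hv _ hm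
      rcases hcase with ⟨hr, -⟩ | ⟨s', -, -, hsign⟩ | ⟨s', -, hs', -⟩
      · have := (hr.shape h2).2.1
        rw [natDegree_X_sub_C] at this
        exact Nat.not_even_one this
      · exact (Nat.not_odd_iff_even.2 hk) (sign1_odd he hsign h2)
      · exact hdeg s s' hs'
    simp [linMult, linFlag, Multiset.count_eq_zero_of_notMem (h0 _), h0]
  have heven0 : ∀ (M : Multiset ((F[X] × ℕ) × Bool)), (∀ z ∈ M, ValidLabel (1 : F) z) → ∀ (s : F) k,
      (s = 1 ∨ s = -1) → Odd k → M.count (((X - C s) ^ 2, k), false) = 0 := by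
    intro M hv s k hs hk
    refine Multiset.count_eq_zero_of_notMem fun hm => ?_
    obtain ⟨he, hcase⟩ := hv _ hm
    rcases hcase with ⟨hr, -⟩ | ⟨s', -, hs', -⟩ | ⟨s', -, -, hsign, -⟩
    · exact (hlin s hs).2 hr
    · exact hdeg s' s hs'.symm
    · exact (Nat.not_even_iff_odd.2 hk) (sign1_even he hsign h2)
  have hflag : ∀ (s : F), (s = 1 ∨ s = -1) → ∀ l,
      linMult M s (2 * l + 1) = linMult M' s (2 * l + 1) ∧ linFlag M s (2 * l + 1) = linFlag M' s (2 * l + 1) := by
    intro s hs l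
    obtain ⟨-, e1, e2⟩ := codePoly_inj h2 (hp (2 * l + 1) (by omega))
    have hb' := hb l
    have hsp : splitFlag (linMult M s (2 * l + 1)) (linFlag M s (2 * l + 1)) =
        splitFlag (linMult M' s (2 * l + 1)) (linFlag M' s (2 * l + 1)) := by
      rcases hs with rfl | rfl
      · refine Prod.ext ?_ (Prod.ext (congrFun hb' 0) (congrFun hb' 1))
        have a := heven0 M hv 1 (2 * l + 1) (Or.inl rfl) ⟨l, rfl⟩
        have b := heven0 M' hv' 1 (2 * l + 1) (Or.inl rfl) ⟨l, rfl⟩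
        simp only [sqPow, a, b, zero_add] at e1
        exact e1
      · refine Prod.ext ?_ (Prod.ext (congrFun hb' 2) (congrFun hb' 3))
        have a := heven0 M hv (-1) (2 * l + 1) (Or.inr rfl) ⟨l, rfl⟩
        have b := heven0 M' hv' (-1) (2 * l + 1) (Or.inr rfl) ⟨l, rfl⟩
        simp only [sqPow, a, b, zero_add] at e2
        exact e2
    exact splitFlag_inj linFlag_pos linFlag_pos hsp
  refine Multiset.ext.2 fun z => ?_
  by_cases hz : ValidLabel (1 : F) z
  swap
  · rw [Multiset.count_eq_zero_of_notMem fun hm => hz (hv z hm),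
      Multiset.count_eq_zero_of_notMem fun hm => hz (hv' z hm)]
  obtain ⟨⟨P, k⟩, ν⟩ := z
  obtain ⟨hk, hcase⟩ := hz
  simp only at hk hcase
  rcases hcase with ⟨hP, rfl⟩ | ⟨s, hs, rfl, hsign⟩ | ⟨s, hs, rfl, hsign, rfl⟩
  · rw [← hreg M hv P k hP, ← hreg M' hv' P k hP, (codePoly_inj h2 (hp k hk)).1]
  · obtain ⟨l, rfl⟩ := sign1_odd hk hsign h2
    obtain ⟨em, ef⟩ := hflag s hs l
    have hmem : (((X - C s, 2 * l + 1), true) ∈ M) ↔ (((X - C s, 2 * l + 1), true) ∈ M') := by
      simpa [linFlag] using ef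
    have hct : M.count ((X - C s, 2 * l + 1), true) = M'.count ((X - C s, 2 * l + 1), true) := by
      rw [count_true_le_one hN rfl, count_true_le_one hN' rfl]
      simp only [hmem]
    cases ν
    · simp only [linMult] at em
      omega
    · exact hct
  · have hodd := sign1_even hk hsign h2
    obtain ⟨-, e1, e2⟩ := codePoly_inj h2 (hp k hk)
    obtain ⟨a, a'⟩ := hodd0 M hv s k hodd
    obtain ⟨b, b'⟩ := hodd0 M' hv' s k hodd
    rcases hs with rfl | rfl
    · simp only [sqPow, a, a', b, b'] at e1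
      exact Nat.add_right_cancel e1
    · simp only [sqPow, a, a', b, b'] at e2
      exact Nat.add_right_cancel e2

/-- total of the bits at `l` -/
noncomputable def bitSum1 (M : Multiset ((F[X] × ℕ) × Bool)) (l : ℕ) : ℕ := ∑ i, (codeBits1 M l i).toNat

theorem expDeg_code1 (h2 : (2 : F) ≠ 0) {M : Multiset ((F[X] × ℕ) × Bool)} (hv : ∀ z ∈ M, ValidLabel (1 : F) z)
    {k : ℕ} (hk : 1 ≤ k) :
    expDeg M k = (codePoly M k).natDegree + if Odd k then bitSum1 M (k / 2) else 0 := by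
  classical
  rw [expDeg_eq h2 hv, codePoly_degree h2]
  have hdeg : ∀ s s' : F, X - C s ≠ (X - C s') ^ 2 := fun s s' hh => by
    have := congrArg natDegree hh
    rw [natDegree_pow, natDegree_X_sub_C, natDegree_X_sub_C] at this
    omega
  split_ifs with he
  · obtain ⟨l, rfl⟩ := he
    rw [show (2 * l + 1) / 2 = l by omega]
    have w1 := splitFlag_weight (j := linMult M 1 (2 * l + 1)) (ν := linFlag M 1 (2 * l + 1)) linFlag_pos
    have w2 := splitFlag_weight (j := linMult M (-1) (2 * l + 1)) (ν := linFlag M (-1) (2 * l + 1)) linFlag_pos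
    have hb : bitSum1 M l = (splitFlag (linMult M 1 (2 * l + 1)) (linFlag M 1 (2 * l + 1))).2.1.toNat +
        (splitFlag (linMult M 1 (2 * l + 1)) (linFlag M 1 (2 * l + 1))).2.2.toNat +
        ((splitFlag (linMult M (-1) (2 * l + 1)) (linFlag M (-1) (2 * l + 1))).2.1.toNat +
        (splitFlag (linMult M (-1) (2 * l + 1)) (linFlag M (-1) (2 * l + 1))).2.2.toNat) := by
      simp [bitSum1, codeBits1, Fin.sum_univ_four]
      ring
    rw [hb]
    simp only [sqPow]
    simp only [linMult] at w1 w2 ⊢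
    omega
  · rw [Nat.not_odd_iff_even] at he
    have h0 : ∀ (s : F) ν, ((X - C s, k), ν) ∉ M := by
      intro s ν hm
      obtain ⟨he', hcase⟩ := hv _ hm
      rcases hcase with ⟨hr, -⟩ | ⟨s', -, -, hsign⟩ | ⟨s', -, hs', -⟩
      · have := (hr.shape h2).2.1
        rw [natDegree_X_sub_C] at this
        exact Nat.not_even_one this
      · exact (Nat.not_odd_iff_even.2 he) (sign1_odd he' hsign h2)
      · exact hdeg s s' hs'
    have hj : ∀ s : F, linMult M s k = 0 ∧ linFlag M s k = false := fun s => by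
      simp [linMult, linFlag, Multiset.count_eq_zero_of_notMem (h0 s _), h0 s]
    have hsf : splitFlag 0 false = (0, false, false) := rfl
    simp only [sqPow, (hj 1).1, (hj 1).2, (hj (-1)).1, (hj (-1)).2, hsf,
      Multiset.count_eq_zero_of_notMem (h0 _ _), add_zero]

theorem code1_bound (h2 : (2 : F) ≠ 0) {M : Multiset ((F[X] × ℕ) × Bool)} (hv : ∀ z ∈ M, ValidLabel (1 : F) z)
    {N : ℕ} (hN : (M.map fun z => z.1.2 * z.1.1.natDegree).sum = N) {z : (F[X] × ℕ) × Bool} (hz : z ∈ M) :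
    z.1.2 ≤ N := by
  have hpos : 1 ≤ z.1.1.natDegree := by
    rcases (hv z hz).2 with ⟨hr, -⟩ | ⟨s, -, hs, -⟩ | ⟨s, -, hs, -⟩
    · exact (hr.shape h2).2.2
    · rw [hs, natDegree_X_sub_C]
    · rw [hs, natDegree_pow, natDegree_X_sub_C]; omega
  calc z.1.2 ≤ z.1.2 * z.1.1.natDegree := Nat.le_mul_of_pos_right _ hpos
    _ ≤ _ := hN ▸ Multiset.le_sum_of_mem (Multiset.mem_map_of_mem (fun z : (F[X] × ℕ) × Bool => z.1.2 * z.1.1.natDegree) hz)

theorem code1_weight (h2 : (2 : F) ≠ 0) {M : Multiset ((F[X] × ℕ) × Bool)} (hv : ∀ z ∈ M, ValidLabel (1 : F) z)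
    {N : ℕ} (hN : (M.map fun z => z.1.2 * z.1.1.natDegree).sum = N) :
    2 * (∑ k ∈ Finset.Icc 1 N, k * ((codePoly M k).natDegree / 2)) +
      ∑ l ∈ Finset.range ((N + 1) / 2), (2 * l + 1) * bitSum1 M l = N := by
  classical
  have heven : ∀ k, (codePoly M k).natDegree % 2 = 0 := fun k => Nat.even_iff.1 (codePoly_shape h2 M k).2.2
  have hb : ∀ z ∈ M, 1 ≤ z.1.2 ∧ z.1.2 ≤ N := fun z hz => ⟨(hv z hz).1, code1_bound h2 hv hN hz⟩
  have h1 := sum_expDeg M N hb
  rw [hN, Finset.sum_congr rfl fun k hk => by rw [expDeg_code1 h2 hv (Finset.mem_Icc.1 hk).1]] at h1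
  simp only [mul_add, mul_ite, mul_zero, Finset.sum_add_distrib] at h1
  rw [← Finset.sum_filter] at h1
  have h3 : ∑ k ∈ (Finset.Icc 1 N).filter (fun k => Odd k), k * bitSum1 M (k / 2) =
      ∑ l ∈ Finset.range ((N + 1) / 2), (2 * l + 1) * bitSum1 M l := by
    refine Finset.sum_bij' (fun k _ => k / 2) (fun l _ => 2 * l + 1) ?_ ?_ ?_ ?_ ?_
    all_goals intro k hk
    all_goals simp only [Finset.mem_filter, Finset.mem_Icc, Finset.mem_range, Nat.odd_iff] at hk ⊢
    · omega
    · omega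
    · omega
    · omega
    · congr 1
      omega
  have h4 : ∑ k ∈ Finset.Icc 1 N, k * (codePoly M k).natDegree =
      2 * ∑ k ∈ Finset.Icc 1 N, k * ((codePoly M k).natDegree / 2) := by
    rw [Finset.mul_sum]
    refine Finset.sum_congr rfl fun k _ => ?_
    rw [mul_left_comm]
    congr 1
    have := heven k
    omega
  rw [h3, h4] at h1
  omega

end Cfsg.Agent.CN9
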