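import Cfsg.Agent.ClassNum9.Orth.Bound
import Cfsg.Agent.ClassNum9.Orth.Lower

/-!
Class number bounds for even dimensional orthogonal groups.
-/

set_option autoImplicit false

namespace Cfsg.Agent.CN9

universe u

variable {F : Type u} [Field F] [Fintype F]

theorem card_classes_O_even (hodd : Odd (Fintype.card F)) {ι : Type} [Fintype ι] [DecidableEq ι]
    (Q : QuadraticForm F (ι → F)) (hQ : (QuadraticMap.polarBilin Q).Nondegenerate) {n : ℕ} (hn : 2 ≤ n)
    (hι : Fintype.card ι = 2 * n) :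
    Fintype.card F ^ n ≤ 2 * Nat.card (ConjClasses ↥(Cfsg.isometryGroup F ⇑Q)) ∧
      2 * Nat.card (ConjClasses ↥(Cfsg.isometryGroup F ⇑Q)) ≤ 19 * Fintype.card F ^ n := by
  classical
  refine ⟨card_classes_O_lower hodd Q hQ hn hι, ?_⟩
  have h := two_mul_card_classes_le hodd Q hQ
  rw [hι] at h
  rw [sum_bitShare] at h
  have hL : (2 * n + 1) / 2 = n := by omega
  have h0 : bitShare (2 * n) (fun (_ : Fin 4) (_ : Fin ((2 * n + 1) / 2)) => false) = 1 := by
    simp [bitShare, bitsWt]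
  rw [h0, Nat.mul_mod_right, pow_zero, mul_one, (even_two_mul n).neg_one_pow, one_mul,
    Nat.mul_div_cancel_left n two_pos, hL] at h
  obtain ⟨b0, b1⟩ := orth_B_le n
  obtain ⟨c0, c1⟩ := orth_C_le (n - 1)
  rw [show n - 1 + 1 = n by omega] at c0 c1
  have hB := pow_le_pow_left₀ b0 b1 4
  have hC := pow_le_pow_left₀ c0 c1 4
  rw [← Nat.cast_le (α := ℝ)]
  push_cast
  refine h.trans (mul_le_mul_of_nonneg_right ?_ (by positivity))
  norm_num at hB hC ⊢
  linarith

end Cfsg.Agent.CN9
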