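import Cfsg.Agent.ClassNum9.Sp.Numeric

/-!
Numerical bounds for class numbers of orthogonal groups.
-/

set_option autoImplicit false

namespace Cfsg.Agent.CN9

open Finset

theorem orth_A_le (M : ℕ) : 0 ≤ ∏ k ∈ Ico 2 M, 1 / (1 - 3 * (1 / 3 : ℝ) ^ k) ∧
    ∏ k ∈ Ico 2 M, 1 / (1 - 3 * (1 / 3 : ℝ) ^ k) ≤ 17854 / 10000 := by
  have e1 : ∀ k, 2 ≤ k → 3 * (1 / 3 : ℝ) ^ k < 1 := fun k hk => by
    have : (1 / 3 : ℝ) ^ k ≤ (1 / 3 : ℝ) ^ 2 := pow_le_pow_of_le_one (by norm_num) (by norm_num) hk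
    norm_num at this ⊢
    linarith
  have hone : ∀ k, 2 ≤ k → 1 ≤ 1 / (1 - 3 * (1 / 3 : ℝ) ^ k) := fun k hk => by
    have h0 : 0 ≤ 3 * (1 / 3 : ℝ) ^ k := by positivity
    rw [one_le_div (by linarith [e1 k hk])]
    linarith
  refine ⟨prod_nonneg fun k hk => zero_le_one.trans (hone k (mem_Ico.1 hk).1), ?_⟩
  refine (prod_split_le (by norm_num : 2 ≤ 9) hone _).trans ?_
  refine le_trans (mul_le_mul_of_nonneg_left (geom_prod_le (by norm_num) (by norm_num) (by norm_num) (a := 9)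
    (by norm_num) _).2 (prod_nonneg fun k hk => zero_le_one.trans (hone k (mem_Ico.1 hk).1))) ?_
  norm_num [prod_Ico_succ_top]

/-- upper bound for `√(1/3)` -/
noncomputable def rt3 : ℝ := 2887 / 5000

theorem rt3_props : 0 < rt3 ∧ rt3 < 1 ∧ (1 / 3 : ℝ) ≤ rt3 ^ 2 := by
  norm_num [rt3]

theorem orth_B_le (L : ℕ) : 0 ≤ ∏ l ∈ range L, (1 + rt3 ^ (2 * l + 1)) ∧
    ∏ l ∈ range L, (1 + rt3 ^ (2 * l + 1)) ≤ 2066541 / 1000000 := by
  obtain ⟨h0, h1, -⟩ := rt3_props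
  have hone : ∀ l, 0 ≤ l → 1 ≤ 1 + rt3 ^ (2 * l + 1) := fun l _ => by
    have : 0 ≤ rt3 ^ (2 * l + 1) := by positivity
    linarith
  refine ⟨prod_nonneg fun l _ => zero_le_one.trans (hone l (Nat.zero_le l)), ?_⟩
  rw [range_eq_Ico]
  refine (prod_split_le (Nat.zero_le 6) hone L).trans ?_
  have hv : rt3 ^ 2 < 1 := pow_lt_one₀ h0.le h1 two_ne_zero
  have hlt : ∀ l, rt3 * (rt3 ^ 2) ^ l < 1 := fun l =>
    lt_of_le_of_lt (mul_le_of_le_one_right h0.le (pow_le_one₀ (by positivity) hv.le)) h1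
  refine le_trans (mul_le_mul_of_nonneg_left (le_trans ?_ (geom_prod_le (z := rt3 ^ 2) (by positivity) hv h0.le
    (a := 6) (by norm_num [rt3]) (max L 6)).2) (prod_nonneg fun l hl => zero_le_one.trans (hone l (Nat.zero_le l)))) ?_
  · refine prod_le_prod (fun l _ => zero_le_one.trans (hone l (Nat.zero_le l))) fun l _ => ?_
    rw [pow_succ', ← pow_mul, le_div_iff₀ (by rw [pow_mul]; linarith [hlt l])]
    have : 0 ≤ rt3 * rt3 ^ (2 * l) := by positivity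
    nlinarith
  · norm_num [prod_Ico_succ_top, rt3]

theorem orth_C_le (L : ℕ) : 0 ≤ ∏ l ∈ range (L + 1), (1 - rt3 ^ (2 * l + 1)) ∧
    ∏ l ∈ range (L + 1), (1 - rt3 ^ (2 * l + 1)) ≤ 4226 / 10000 := by
  obtain ⟨h0, h1, -⟩ := rt3_props
  have hle : ∀ l, 0 ≤ 1 - rt3 ^ (2 * l + 1) ∧ 1 - rt3 ^ (2 * l + 1) ≤ 1 := fun l => by
    have : rt3 ^ (2 * l + 1) ≤ 1 := pow_le_one₀ h0.le h1.le
    have : 0 ≤ rt3 ^ (2 * l + 1) := by positivity
    constructor <;> linarith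
  refine ⟨prod_nonneg fun l _ => (hle l).1, ?_⟩
  rw [prod_range_succ']
  refine le_trans (mul_le_of_le_one_left (hle 0).1 (prod_le_one (fun l _ => (hle (l + 1)).1) fun l _ => (hle (l + 1)).2)) ?_
  norm_num [rt3]

end Cfsg.Agent.CN9
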