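import Cfsg.Agent.Lib.GLSemisimple.SpClasses

/-!
The palindromic polynomial `x^n h(x + 1/x)`.
-/

set_option autoImplicit false

namespace Cfsg.Agent.CN9

open Polynomial Matrix Cfsg.Agent.GLSemi

universe u

variable {F : Type u} [Field F]

/-- `x^n h(x + 1/x)` -/
noncomputable def palOf (n : ℕ) (h : F[X]) : F[X] :=
  ∑ k ∈ Finset.range (n + 1), C (h.coeff k) * ((X ^ 2 + 1) ^ k * X ^ (n - k))

theorem palOf_step {n : ℕ} {h : F[X]} (hd : h.natDegree ≤ n) (c : F) :
    palOf (n + 1) ((X - C c) * h) = (X ^ 2 - C c * X + 1) * palOf n h := by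
  have h1 : palOf (n + 1) (X * h) = (X ^ 2 + 1) * palOf n h := by
    rw [palOf, Finset.sum_range_succ', palOf, Finset.mul_sum]
    simp only [coeff_X_mul, coeff_X_mul_zero, map_zero, zero_mul, add_zero]
    exact Finset.sum_congr rfl fun k _ => by rw [show n + 1 - (k + 1) = n - k by omega]; ring
  have h0 : palOf (n + 1) h = X * palOf n h := by
    rw [palOf, Finset.sum_range_succ, coeff_eq_zero_of_natDegree_lt (by omega), map_zero, zero_mul, add_zero, palOf,
      Finset.mul_sum]
    refine Finset.sum_congr rfl fun k hk => ?_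
    rw [Finset.mem_range] at hk
    rw [show n + 1 - k = (n - k) + 1 by omega]
    ring
  have hlin : palOf (n + 1) ((X - C c) * h) = palOf (n + 1) (X * h) - C c * palOf (n + 1) h := by
    simp only [palOf, sub_mul, coeff_sub, coeff_C_mul, map_sub, map_mul, Finset.mul_sum, ← Finset.sum_sub_distrib]
    exact Finset.sum_congr rfl fun k _ => by ring
  rw [hlin, h1, h0]
  ring

theorem det_subst_eq_palOf {n : ℕ} (C' : Matrix (Fin n) (Fin n) F) :
    (((X : F[X]) ^ 2 + 1) • (1 : Matrix (Fin n) (Fin n) F[X]) - (X : F[X]) • C'.map Polynomial.C).det =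
      palOf n C'.charpoly := by
  set L := AlgebraicClosure F
  apply Polynomial.map_injective (algebraMap F L) (algebraMap F L).injective
  apply Polynomial.funext
  intro x
  rw [eval_map_algebraMap, eval_map_algebraMap, AlgHom.map_det]
  have hdeg : C'.charpoly.natDegree = n := by rw [Matrix.charpoly_natDegree_eq_dim, Fintype.card_fin]
  have hpal : aeval x (palOf n C'.charpoly) =
      ∑ k ∈ Finset.range (n + 1), algebraMap F L (C'.charpoly.coeff k) * ((x ^ 2 + 1) ^ k * x ^ (n - k)) := by
    simp [palOf, map_sum]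
  rw [hpal]
  by_cases hx0 : x = 0
  · subst hx0
    have hM : (aeval (0 : L)).mapMatrix
        (((X : F[X]) ^ 2 + 1) • (1 : Matrix (Fin n) (Fin n) F[X]) - (X : F[X]) • C'.map Polynomial.C) = 1 := by
      ext i j
      by_cases hij : i = j
      · subst hij; simp
      · simp [hij]
    rw [hM, Matrix.det_one, Finset.sum_range_succ, Finset.sum_eq_zero, zero_add, Nat.sub_self]
    · have h1 := (Matrix.charpoly_monic C').coeff_natDegree
      rw [hdeg] at h1
      rw [h1]
      simp
    · intro k hk
      rw [Finset.mem_range] at hk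
      simp [zero_pow (show n - k ≠ 0 by omega)]
  set y := x + x⁻¹ with hy
  have hM : (aeval x).mapMatrix
      (((X : F[X]) ^ 2 + 1) • (1 : Matrix (Fin n) (Fin n) F[X]) - (X : F[X]) • C'.map Polynomial.C) =
      x • (Matrix.scalar (Fin n) y - C'.map (algebraMap F L)) := by
    ext i j
    by_cases hij : i = j
    · subst hij
      simp [aeval_C, mul_sub, hy, mul_add, mul_inv_cancel₀ hx0, sq]
      ring
    · simp [aeval_C, hij]
      ring
  rw [hM, Matrix.det_smul, Fintype.card_fin, ← Matrix.eval_charpoly, Matrix.charpoly_map, eval_map_algebraMap,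
    aeval_eq_sum_range, hdeg, Finset.mul_sum]
  refine Finset.sum_congr rfl fun k hk => ?_
  rw [Finset.mem_range] at hk
  rw [Algebra.smul_def, show x ^ 2 + 1 = x * y by rw [hy, mul_add, mul_inv_cancel₀ hx0, sq], mul_pow,
    ← mul_assoc (algebraMap F L _), show x ^ n = x ^ k * x ^ (n - k) by rw [← pow_add]; congr 1; omega]
  ring

theorem palOf_injective {n : ℕ} {h h' : F[X]} (hm : h.Monic) (hd : h.natDegree = n) (hm' : h'.Monic)
    (hd' : h'.natDegree = n) (he : palOf n h = palOf n h') : h = h' := by
  obtain ⟨C1, -, hC1, -⟩ := exists_sym_companion hm hd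
  obtain ⟨C2, -, hC2, -⟩ := exists_sym_companion hm' hd'
  rw [← hC1, ← hC2] at he ⊢
  rw [← det_subst_eq_palOf, ← det_subst_eq_palOf] at he
  exact det_subst_injective he

end Cfsg.Agent.CN9
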