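import Cfsg.Agent.ClassNum9.Orth.Pal
import Cfsg.Agent.GraphAut.Classify

/-!
Orthogonal matrices with a given palindromic characteristic polynomial.
-/

set_option autoImplicit false

namespace Cfsg.Agent.CN9

open Polynomial Matrix Cfsg.Agent.GLSemi

universe u

variable {F : Type u} [Field F] [Fintype F]

/-- a symmetric form of determinant class `d` with an isometry of characteristic polynomial `P` -/
def OrthReal' (n : ℕ) (P : F[X]) (d : F) : Prop :=
  ∃ J g : Matrix (Fin n ⊕ Fin n) (Fin n ⊕ Fin n) F,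
    Jᵀ = J ∧ gᵀ * J * g = J ∧ J.det ≠ 0 ∧ IsSquare (J.det * d) ∧ g.charpoly = P

omit [Fintype F] in
theorem orthReal_base (h2 : (2 : F) ≠ 0) {n : ℕ} {h : F[X]} (hm : h.Monic) (hd : h.natDegree = n)
    (hne : h.eval 2 * h.eval (-2) ≠ 0) {d : F} (hsq : IsSquare ((-1) ^ n * (h.eval 2 * h.eval (-2)) * d)) :
    OrthReal' n (palOf n h) d := by
  obtain ⟨C, T, hC, hT, hTu, hCT⟩ := exists_sym_companion hm hd
  have hTdet : T.det ≠ 0 := ((Matrix.isUnit_iff_isUnit_det T).1 hTu).ne_zero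
  set J : Matrix (Fin n ⊕ Fin n) (Fin n ⊕ Fin n) F :=
    Matrix.fromBlocks ((2 : F) • T) (T * C) (T * C) ((2 : F) • T) with hJ
  set g : Matrix (Fin n ⊕ Fin n) (Fin n ⊕ Fin n) F := Matrix.fromBlocks C (-(-1)) (-1) 0 with hg
  have hTC : (T * C)ᵀ = T * C := by rw [Matrix.transpose_mul, hT, hCT]
  have hdetblock : (Matrix.fromBlocks ((2 : F) • (1 : Matrix (Fin n) (Fin n) F)) C C ((2 : F) • 1)).det =
      ((2 : F) • 1 + C).det * ((2 : F) • 1 - C).det := by
    have e : Matrix.fromBlocks (1 : Matrix (Fin n) (Fin n) F) 1 0 1 *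
        Matrix.fromBlocks ((2 : F) • (1 : Matrix (Fin n) (Fin n) F)) C C ((2 : F) • 1) *
        Matrix.fromBlocks (1 : Matrix (Fin n) (Fin n) F) (-1) 0 1 =
        Matrix.fromBlocks ((2 : F) • 1 + C) 0 C ((2 : F) • 1 - C) := by
      rw [Matrix.fromBlocks_multiply, Matrix.fromBlocks_multiply]
      congr 1
      · simp
      · simp
        abel
      · simp
      · simp
        abel
    have e2 := congrArg Matrix.det e
    rw [Matrix.det_mul, Matrix.det_mul, Matrix.det_fromBlocks_zero₂₁, Matrix.det_fromBlocks_zero₂₁,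
      Matrix.det_fromBlocks_zero₁₂, Matrix.det_one] at e2
    simpa using e2
  have hJdet : J.det = T.det ^ 2 * ((-1) ^ n * (h.eval 2 * h.eval (-2))) := by
    have e : J = Matrix.fromBlocks T 0 0 T * Matrix.fromBlocks ((2 : F) • (1 : Matrix (Fin n) (Fin n) F)) C C ((2 : F) • 1) := by
      rw [hJ, Matrix.fromBlocks_multiply]
      simp
    rw [e, Matrix.det_mul, Matrix.det_fromBlocks_zero₂₁, hdetblock, ← hC, Matrix.eval_charpoly, Matrix.eval_charpoly]
    have e2 : Matrix.scalar (Fin n) (2 : F) - C = (2 : F) • 1 - C := by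
      rw [Matrix.scalar_apply, ← Matrix.smul_one_eq_diagonal]
    have e3 : Matrix.scalar (Fin n) (-2 : F) - C = -((2 : F) • 1 + C) := by
      rw [Matrix.scalar_apply, ← Matrix.smul_one_eq_diagonal, neg_smul]
      abel
    rw [e2, e3, Matrix.det_neg, Fintype.card_fin]
    have hs : ((-1 : F) ^ n) * (-1) ^ n = 1 := by rw [← mul_pow]; simp
    linear_combination (-(T.det ^ 2 * ((2 : F) • (1 : Matrix (Fin n) (Fin n) F) + C).det *
      ((2 : F) • (1 : Matrix (Fin n) (Fin n) F) - C).det)) * hs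
  refine ⟨J, g, ?_, ?_, ?_, ?_, ?_⟩
  · rw [hJ, Matrix.fromBlocks_transpose, hTC, Matrix.transpose_smul, hT]
  · rw [hJ, hg, Matrix.fromBlocks_transpose, Matrix.fromBlocks_multiply, Matrix.fromBlocks_multiply]
    simp only [Matrix.transpose_one, Matrix.transpose_neg, Matrix.transpose_zero, Matrix.mul_smul, Matrix.smul_mul,
      mul_one, one_mul, mul_zero, zero_mul, add_zero, zero_add, neg_mul, mul_neg, neg_neg, mul_assoc, add_mul,
      neg_add_rev, smul_neg]
    have e : Cᵀ * (T * C) = T * (C * C) := by rw [← mul_assoc, hCT, mul_assoc]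
    rw [hCT, e]
    congr 1
    all_goals first | rfl | (simp only [two_smul, mul_add, add_mul]; abel)
  · rw [hJdet]
    exact mul_ne_zero (pow_ne_zero _ hTdet) (mul_ne_zero (pow_ne_zero _ (neg_ne_zero.2 one_ne_zero)) hne)
  · rw [hJdet]
    obtain ⟨r, hr⟩ := hsq
    exact ⟨T.det * r, by linear_combination (T.det ^ 2) * hr⟩
  · rw [hg, det_blocks_charpoly C (-1) (-1) (by simp), det_subst_eq_palOf, hC]

/-- realisation of every palindromic polynomial of compatible discriminant -/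
theorem orthReal_exists (h2 : (2 : F) ≠ 0) : ∀ (n : ℕ) (h : F[X]), h.Monic → h.natDegree = n → ∀ d : F, d ≠ 0 →
    (h.eval 2 * h.eval (-2) = 0 ∨ IsSquare ((-1) ^ n * (h.eval 2 * h.eval (-2)) * d)) →
    OrthReal' n (palOf n h) d := by
  intro n
  induction n with
  | zero =>
    intro h hm hd d hd0 hcond
    have h1 : h = 1 := hm.natDegree_eq_zero.1 hd
    subst h1
    refine orthReal_base h2 hm hd (by simp) ?_
    simpa using hcond
  | succ n ih =>
    intro h hm hd d hd0 hcond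
    by_cases hz : h.eval 2 * h.eval (-2) = 0
    swap
    · exact orthReal_base h2 hm hd hz (hcond.resolve_left hz)
    obtain ⟨s, hs, hroot⟩ : ∃ s : F, (s = 1 ∨ s = -1) ∧ h.eval (2 * s) = 0 := by
      rcases mul_eq_zero.1 hz with h0 | h0
      · exact ⟨1, Or.inl rfl, by rwa [mul_one]⟩
      · exact ⟨-1, Or.inr rfl, by rwa [mul_neg, mul_one]⟩
    obtain ⟨h1, rfl⟩ := dvd_iff_isRoot.2 (show IsRoot h (2 * s) from hroot)
    have hm1 : h1.Monic := (monic_X_sub_C _).of_mul_monic_left hm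
    have hd1 : h1.natDegree = n := by
      rw [(monic_X_sub_C _).natDegree_mul hm1, natDegree_X_sub_C] at hd
      omega
    set e1 := h1.eval 2 * h1.eval (-2) with he1
    obtain ⟨d1, hd10, hd1c⟩ : ∃ d1 : F, d1 ≠ 0 ∧ (e1 = 0 ∨ IsSquare ((-1) ^ n * e1 * d1)) := by
      by_cases h0 : e1 = 0
      · exact ⟨1, one_ne_zero, Or.inl h0⟩
      · exact ⟨(-1) ^ n * e1, mul_ne_zero (pow_ne_zero _ (neg_ne_zero.2 one_ne_zero)) h0, Or.inr ⟨_, rfl⟩⟩
    obtain ⟨J1, g1, hJ1, hg1, hdet1, -, hcp1⟩ := ih h1 hm1 hd1 d1 hd10 hd1c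
    set J2 : Matrix (Fin 2) (Fin 2) F := !![1, 0; 0, d * J1.det] with hJ2
    have hJ2s : J2ᵀ = J2 := by ext i j; fin_cases i <;> fin_cases j <;> rfl
    have hJ2d : J2.det = d * J1.det := by rw [hJ2, Matrix.det_fin_two_of]; ring
    let σ : (Fin n ⊕ Fin n) ⊕ Fin 2 ≃ Fin (n + 1) ⊕ Fin (n + 1) := Fintype.equivOfCardEq (by simp; omega)
    set J' := Matrix.fromBlocks J1 0 0 J2 with hJ'
    set g' := Matrix.fromBlocks g1 0 0 (s • (1 : Matrix (Fin 2) (Fin 2) F)) with hg'
    refine ⟨Matrix.reindex σ σ J', Matrix.reindex σ σ g', ?_, ?_, ?_, ?_, ?_⟩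
    · rw [Matrix.transpose_reindex, hJ', Matrix.fromBlocks_transpose, hJ1, hJ2s, Matrix.transpose_zero,
        Matrix.transpose_zero]
    · rw [Matrix.transpose_reindex, Matrix.reindex_apply, Matrix.reindex_apply, Matrix.reindex_apply,
        Matrix.submatrix_mul_equiv, Matrix.submatrix_mul_equiv]
      congr 1
      rw [hg', hJ', Matrix.fromBlocks_transpose, Matrix.fromBlocks_multiply, Matrix.fromBlocks_multiply]
      have hss : s * s = 1 := by rcases hs with rfl | rfl <;> simp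
      simp [hg1, smul_smul, hss]
    · rw [Matrix.det_reindex_self, hJ', Matrix.det_fromBlocks_zero₂₁, hJ2d]
      exact mul_ne_zero hdet1 (mul_ne_zero hd0 hdet1)
    · rw [Matrix.det_reindex_self, hJ', Matrix.det_fromBlocks_zero₂₁, hJ2d]
      exact ⟨J1.det * d, by ring⟩
    · rw [Matrix.charpoly_reindex, hg', Matrix.charpoly_fromBlocks_zero₂₁, hcp1, palOf_step hd1.le, mul_comm]
      congr 1
      rw [Matrix.charpoly_fin_two, Matrix.trace_fin_two, Matrix.det_fin_two]
      rcases hs with rfl | rfl <;> simp [map_ofNat] <;> ring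

end Cfsg.Agent.CN9
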